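import Groth.Prelude.Def_BigSite
import Mathlib.CategoryTheory.Sites.LocallyBijective
import Mathlib.CategoryTheory.Limits.IsConnected

/-!
# Pushforward along an almost cocontinuous functor commutes with connected colimits
-/

set_option autoImplicit false
universe w' w v₁ v₂ v₃ u₁ u₂ u₃ u

open CategoryTheory CategoryTheory.Limits Opposite

noncomputable section

namespace K299.AlmostCocont

variable {C : Type u₁} [Category.{v₁} C] {D : Type u₂} [Category.{v₂} D] (F : C ⥤ D)
  (J : GrothendieckTopology C) (L : GrothendieckTopology D)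
  {A : Type u₃} [Category.{v₃} A] {FA : A → A → Type*} {CA : A → Type w'}
  [∀ X Y, FunLike (FA X Y) (CA X) (CA Y)] [ConcreteCategory.{w'} A FA]

section Local

variable (hF : BigSite.IsAlmostCocontinuous F J L) {P Q : Dᵒᵖ ⥤ A} (φ : P ⟶ Q)

include hF in
theorem isLocallyInjective_whisker (h : Presheaf.IsLocallyInjective L φ)
    (h0 : ∀ V : D, (⊥ : Sieve V) ∈ L V → Subsingleton (CA (P.obj (op V)))) :
    Presheaf.IsLocallyInjective J (Functor.whiskerLeft F.op φ) where
  equalizerSieve_mem {X} x y e := by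
    have h1 : Presheaf.equalizerSieve (F := P) (X := op (F.obj X.unop)) x y ∈ L (F.obj X.unop) :=
      Presheaf.equalizerSieve_mem L φ _ _ e
    obtain ⟨R', hR', H⟩ := hF _ _ h1
    refine J.superset_covering ?_ hR'
    intro V g hg
    rcases H g hg with hb | hb
    · have := h0 _ hb
      change P.map (F.map g).op _ = P.map (F.map g).op _
      exact Subsingleton.elim (α := CA (P.obj (op (F.obj V)))) _ _
    · exact hb

include hF in
theorem isLocallySurjective_whisker (h : Presheaf.IsLocallySurjective L φ)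
    (h0 : ∀ V : D, (⊥ : Sieve V) ∈ L V → Nonempty (CA (P.obj (op V))))
    (h1 : ∀ V : D, (⊥ : Sieve V) ∈ L V → Subsingleton (CA (Q.obj (op V)))) :
    Presheaf.IsLocallySurjective J (Functor.whiskerLeft F.op φ) where
  imageSieve_mem {U} s := by
    have h2 : Presheaf.imageSieve φ (U := F.obj U) s ∈ L (F.obj U) := Presheaf.imageSieve_mem L φ _
    obtain ⟨R', hR', H⟩ := hF _ _ h2
    refine J.superset_covering ?_ hR'
    intro V g hg
    rcases H g hg with hb | hb
    · have := h1 _ hb
      obtain ⟨t⟩ := h0 _ hb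
      exact ⟨t, Subsingleton.elim (α := CA (Q.obj (op (F.obj V)))) _ _⟩
    · exact hb

end Local

section Colim

variable {F J L} [HasSheafify L A] [F.IsContinuous J L] {I : Type u} [Category.{w} I]

omit [∀ X Y, FunLike (FA X Y) (CA X) (CA Y)] [ConcreteCategory.{w'} A FA] in
/-- `F_*` preserves the colimit of `K` if `F^* (sheafification)` is locally bijective at the presheaf colimit. -/
theorem preservesColimit (K : I ⥤ Sheaf L A)
    (E : Cocone (K ⋙ sheafToPresheaf L A)) (hE : IsColimit E)
    [∀ k : Cᵒᵖ, PreservesColimit (K ⋙ sheafToPresheaf L A) ((evaluation _ A).obj (F.op.obj k))]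
    (hW : J.W (Functor.whiskerLeft F.op (CategoryTheory.toSheafify L E.pt))) :
    PreservesColimit K (F.sheafPushforwardContinuous A J L) := by
  let wh := (Functor.whiskeringLeft _ _ A).obj F.op
  have hE' : IsColimit (wh.mapCocone E) := evaluationJointlyReflectsColimits _ fun k =>
    isColimitOfPreserves ((evaluation _ A).obj (F.op.obj k)) hE
  refine preservesColimit_of_preserves_colimit_cocone (Sheaf.isColimitSheafifyCocone E hE) ?_
  let Φ := F.sheafPushforwardContinuous A J L
  -- cocones to a sheaf `G`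
  let mk : ∀ s : Cocone (K ⋙ Φ), Cocone (K ⋙ sheafToPresheaf L A ⋙ wh) := fun s =>
    (sheafToPresheaf J A).mapCocone s
  let θ : wh.obj E.pt ⟶ wh.obj (CategoryTheory.sheafify L E.pt) := wh.map (CategoryTheory.toSheafify L E.pt)
  have key : ∀ s : Cocone (K ⋙ Φ), ∃ m : wh.obj (CategoryTheory.sheafify L E.pt) ⟶ s.pt.obj,
      θ ≫ m = hE'.desc (mk s) ∧ ∀ m', θ ≫ m' = hE'.desc (mk s) → m' = m := by
    intro s
    have h3 := hW s.pt.obj s.pt.property
    obtain ⟨m, hm⟩ := h3.2 (hE'.desc (mk s))
    exact ⟨m, hm, fun m' hm' => h3.1 (hm'.trans hm.symm)⟩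
  choose m hm hm' using key
  have h5 : ∀ j, (sheafToPresheaf J A).map ((Φ.mapCocone (Sheaf.sheafifyCocone E)).ι.app j) =
      wh.map (E.ι.app j) ≫ θ := by
    intro j
    have := Sheaf.sheafifyCocone_ι_app_val E j
    exact (congrArg wh.map this).trans (wh.map_comp _ _)
  refine ⟨fun s => ⟨m s⟩, fun s j => ?_, fun s m₁ h1 => ?_⟩
  · apply (sheafToPresheaf _ _).map_injective
    have h6 : (wh.map (E.ι.app j) ≫ θ) ≫ m s = (mk s).ι.app j :=
      (Category.assoc _ _ _).trans ((congrArg (fun t => wh.map (E.ι.app j) ≫ t) (hm s)).trans (hE'.fac (mk s) j))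
    exact (congrArg (fun t => t ≫ m s) (h5 j)).trans h6
  · apply (sheafToPresheaf _ _).map_injective
    refine hm' s m₁.hom ?_
    apply hE'.hom_ext
    intro j
    have h6 := congrArg (fun k => (sheafToPresheaf J A).map k) (h1 j)
    have h7 : (wh.map (E.ι.app j) ≫ θ) ≫ m₁.hom = (mk s).ι.app j :=
      (congrArg (fun t => t ≫ m₁.hom) (h5 j)).symm.trans h6
    rw [hE'.fac]
    exact (Category.assoc _ _ _).symm.trans h7

end Colim

end K299.AlmostCocont
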