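import Groth.Agent.BigSite.K299.EtRes
import Groth.Agent.Etrest.BigPush2

/-!
# Cartesian squares and big sites: `g⁻¹ f_* ≅ f'_* g'⁻¹`
-/

set_option autoImplicit false
universe w w' v₁ v₂ v₃ v₄ u₁ u₂ u₃ u₄ u

open CategoryTheory CategoryTheory.Limits AlgebraicGeometry Opposite

noncomputable section

namespace K299.BC

open Groth.Agent.Etrest Groth.Agent.Etrest.BigEtSite Groth.Agent.Etrest.BigPush K299.EtRes

variable {T S T' S' : Scheme.{u}} (f : T ⟶ S) (g : S' ⟶ S) (g' : T' ⟶ T) (f' : T' ⟶ S')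

/-- Beck–Chevalley for slices. -/
def pbMapHom (w : g' ≫ f = f' ≫ g) : Over.pullback f' ⋙ Over.map g' ⟶ Over.map g ⋙ Over.pullback f where
  app W := Over.homMk (sigmaLift f g f' g' w W.hom) (pullback.lift_snd _ _ _)
  naturality W W' k := by
    apply Over.OverMorphism.ext
    apply pullback.hom_ext
    · have e1 : sigmaLift f g f' g' w W.hom ≫ pullback.fst (W.hom ≫ g) f = pullback.fst W.hom f' :=
        pullback.lift_fst _ _ _
      have e2 : sigmaLift f g f' g' w W'.hom ≫ pullback.fst (W'.hom ≫ g) f = pullback.fst W'.hom f' :=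
        pullback.lift_fst _ _ _
      have e3 : ((Over.pullback f).map ((Over.map g).map k)).left ≫ pullback.fst (W'.hom ≫ g) f =
        pullback.fst (W.hom ≫ g) f ≫ k.left := pullback.lift_fst _ _ _
      have e4 : ((Over.pullback f').map k).left ≫ pullback.fst W'.hom f' =
        pullback.fst W.hom f' ≫ k.left := pullback.lift_fst _ _ _
      change (((Over.pullback f').map k).left ≫ sigmaLift f g f' g' w W'.hom) ≫ pullback.fst (W'.hom ≫ g) f =
        (sigmaLift f g f' g' w W.hom ≫ ((Over.pullback f).map ((Over.map g).map k)).left) ≫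
          pullback.fst (W'.hom ≫ g) f
      rw [Category.assoc, e2, e4, Category.assoc, e3, reassoc_of% e1]
    · have e1 : sigmaLift f g f' g' w W.hom ≫ pullback.snd (W.hom ≫ g) f = pullback.snd W.hom f' ≫ g' :=
        pullback.lift_snd _ _ _
      have e2 : sigmaLift f g f' g' w W'.hom ≫ pullback.snd (W'.hom ≫ g) f = pullback.snd W'.hom f' ≫ g' :=
        pullback.lift_snd _ _ _
      have e3 : ((Over.pullback f).map ((Over.map g).map k)).left ≫ pullback.snd (W'.hom ≫ g) f =
        pullback.snd (W.hom ≫ g) f := Over.w ((Over.pullback f).map ((Over.map g).map k))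
      have e4 : ((Over.pullback f').map k).left ≫ pullback.snd W'.hom f' =
        pullback.snd W.hom f' := Over.w ((Over.pullback f').map k)
      change (((Over.pullback f').map k).left ≫ sigmaLift f g f' g' w W'.hom) ≫ pullback.snd (W'.hom ≫ g) f =
        (sigmaLift f g f' g' w W.hom ≫ ((Over.pullback f).map ((Over.map g).map k)).left) ≫
          pullback.snd (W'.hom ≫ g) f
      rw [Category.assoc, e2, reassoc_of% e4, Category.assoc, e3, e1]

variable {f g g' f'}

theorem isIso_pbMapHom (h : IsPullback g' f' f g) : IsIso (pbMapHom f g g' f' h.w) := by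
  have : ∀ W, IsIso ((pbMapHom f g g' f' h.w).app W) := fun W =>
    isIso_of_left _ (isIso_sigmaLift f g f' g' h W.hom)
  exact NatIso.isIso_of_isIso_app _

/-- Beck–Chevalley for slices. -/
def pbMapIso (h : IsPullback g' f' f g) : Over.pullback f' ⋙ Over.map g' ≅ Over.map g ⋙ Over.pullback f :=
  @asIso _ _ _ _ _ (isIso_pbMapHom h)

variable (K : Precoverage Scheme.{u}) (A : Type w) [Category.{w'} A]

/-- `g⁻¹ f_* ≅ f'_* g'⁻¹` on big sites. -/
def pushPullIso (h : IsPullback g' f' f g) :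
    BigSite.pushBig K f A ⋙ BigSite.pullBig K g A ≅ BigSite.pullBig K g' A ⋙ BigSite.pushBig K f' A :=
  letI : (Over.map g ⋙ Over.pullback f).IsContinuous (QuotSh.J K S') (QuotSh.J K T) :=
    Functor.isContinuous_comp _ _ _ (QuotSh.J K S) _
  Functor.sheafPushforwardContinuousComp' (F := Over.map g) (G := Over.pullback f)
    (FG := Over.map g ⋙ Over.pullback f) (Iso.refl _) A (QuotSh.J K S') (QuotSh.J K S) (QuotSh.J K T) ≪≫
    (Functor.sheafPushforwardContinuousComp' (F := Over.pullback f') (G := Over.map g')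
    (FG := Over.map g ⋙ Over.pullback f) (pbMapIso h) A (QuotSh.J K S') (QuotSh.J K T') (QuotSh.J K T)).symm

/-- `i_g⁻¹ f_* ≅ f'_* i_{g'}⁻¹`. -/
def pushResIso (h : IsPullback g' f' f g) :
    BigSite.pushBig KE f AddCommGrpCat.{u + 1} ⋙ BigSite.resEtAlong KE g ≅
      BigSite.resEtAlong KE g' ⋙ EtCoh.push f' :=
  (Functor.associator _ _ _).symm ≪≫ Functor.isoWhiskerRight (pushPullIso KE AddCommGrpCat.{u + 1} h) _ ≪≫
    NatIso.ofComponents (fun _ => Iso.refl _) (fun φ => by
      simp only [Iso.refl_hom]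
      exact (Category.comp_id _).trans (Category.id_comp _).symm)

/-- `g⁻¹ R^q f_* ≅ R^q f'_* g'⁻¹`. -/
def RpushPullIso (h : IsPullback g' f' f g) (F : BigSite.Ab K T) (q : ℕ) :
    (BigSite.pullBig K g AddCommGrpCat.{u + 1}).obj ((BigSite.RpushBig K f q).obj F) ≅
      (BigSite.RpushBig K f' q).obj ((BigSite.pullBig K g' AddCommGrpCat.{u + 1}).obj F) :=
  DerComm.derIso (BigSite.pushBig K f AddCommGrpCat.{u + 1}) (BigSite.pullBig K g AddCommGrpCat.{u + 1})
    (BigSite.pullBig K g' AddCommGrpCat.{u + 1}) (BigSite.pushBig K f' AddCommGrpCat.{u + 1})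
    (pushPullIso K AddCommGrpCat.{u + 1} h) (fun I _ => PullInj.injective_pullBig K g' I) F q

/-- `i_g⁻¹ R^q f_* ≅ R^q f'_* i_{g'}⁻¹`. -/
def RpushResIso (h : IsPullback g' f' f g) (F : BigSite.Ab KE T) (q : ℕ) :
    (BigSite.resEtAlong KE g).obj ((BigSite.RpushBig KE f q).obj F) ≅
      (EtCoh.Rpush f' q).obj ((BigSite.resEtAlong KE g').obj F) :=
  DerComm.derIso (BigSite.pushBig KE f AddCommGrpCat.{u + 1}) (BigSite.resEtAlong KE g)
    (BigSite.resEtAlong KE g') (EtCoh.push f')
    (pushResIso h) (fun I _ => injective_resEtAlong g' KE I) F q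

end K299.BC
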