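import Groth.Agent.BigSite.K299.EtRes
import Groth.Agent.S0481

/-!
# K-injective complexes on the big étale site restrict to K-injective complexes
-/

set_option autoImplicit false
universe u

open CategoryTheory CategoryTheory.Limits AlgebraicGeometry Opposite

noncomputable section

namespace K299.EtRes2

open K299.EtRes

variable (S : Scheme.{u})

instance additive_piEtPull (K : Precoverage Scheme.{u}) [BigSite.AEtCont K S] : (BigSite.piEtPull K S).Additive :=
  (BigSite.piEtAdj K S).left_adjoint_additive

instance preservesFiniteColimits_piEtPull (K : Precoverage Scheme.{u}) [BigSite.AEtCont K S] :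
    PreservesFiniteColimits (BigSite.piEtPull K S) := by
  have : PreservesColimitsOfSize.{0, 0} (BigSite.piEtPull K S) :=
    (BigSite.piEtAdj K S).leftAdjoint_preservesColimits
  exact PreservesColimitsOfSize.preservesFiniteColimits _

theorem isKInjective_resEt (K : Precoverage Scheme.{u}) [BigSite.AEtCont K S]
    (I : CochainComplex (BigSite.Ab K S) ℤ) [hI : I.IsKInjective] :
    CochainComplex.IsKInjective (((BigSite.resEt K S).mapHomologicalComplex (ComplexShape.up ℤ)).obj I) := by
  have := preservesFiniteLimits_piEtPull S K
  exact Groth.Agent.S0481.result (BigSite.resEt K S) (BigSite.piEtPull K S) (BigSite.piEtAdj K S) I hI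

variable {S} {T : Scheme.{u}} (f : T ⟶ S)

instance preservesFiniteColimits_shriekAb (K : Precoverage Scheme.{u}) :
    PreservesFiniteColimits (BigSite.shriekAb K f) := by
  have : PreservesColimitsOfSize.{0, 0} (BigSite.shriekAb K f) :=
    (BigSite.shriekAbAdj K f).leftAdjoint_preservesColimits
  exact PreservesColimitsOfSize.preservesFiniteColimits _

theorem isKInjective_pullBig (K : Precoverage Scheme.{u})
    (I : CochainComplex (BigSite.Ab K S) ℤ) [hI : I.IsKInjective] :
    CochainComplex.IsKInjective (((BigSite.pullBig K f AddCommGrpCat.{u + 1}).mapHomologicalComplex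
      (ComplexShape.up ℤ)).obj I) := by
  have := PullInj.preservesFiniteLimits_shriekAb K f
  exact Groth.Agent.S0481.result (BigSite.pullBig K f AddCommGrpCat.{u + 1}) (BigSite.shriekAb K f)
    (BigSite.shriekAbAdj K f) I hI

theorem isKInjective_resEtAlong (K : Precoverage Scheme.{u}) [BigSite.AEtCont K T]
    (I : CochainComplex (BigSite.Ab K S) ℤ) [hI : I.IsKInjective] :
    CochainComplex.IsKInjective (((BigSite.resEtAlong K f).mapHomologicalComplex (ComplexShape.up ℤ)).obj I) := by
  have h1 := isKInjective_pullBig f K I
  exact isKInjective_resEt T K (((BigSite.pullBig K f AddCommGrpCat.{u + 1}).mapHomologicalComplex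
      (ComplexShape.up ℤ)).obj I)

end K299.EtRes2
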