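import Groth.Agent.BigSite.K299.BC
import Groth.Agent.BigSite.K299.EtRes2
import Groth.Agent.Etrest.BigPush3
import Groth.Agent.Etrest.Eff

/-!
# Comparison of higher direct images on the small and the big étale sites
-/

set_option autoImplicit false
universe w u
open CategoryTheory CategoryTheory.Limits AlgebraicGeometry Opposite

noncomputable section

namespace K299.BigComp

open Groth.Agent.Etrest Groth.Agent.Etrest.BigEtSite Groth.Agent.Etrest.BigPush K299.EtRes K299.EtRes2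

variable {X Y : Scheme.{u}} (f : X ⟶ Y)

/-- Natural comparison isomorphism on the big étale sites, under base change in degree zero. -/
def compEIso (h : ∀ (F : EtCoh.Ab X) (T X' : Scheme.{u}) (t : T ⟶ Y) (f' : X' ⟶ T) (t' : X' ⟶ X)
      (hp : IsPullback t' f' f t), IsIso (EtCoh.baseChange0 f t f' t' hp.w F)) :
    EtCoh.push f ⋙ BigSite.piEtPull KE Y ≅
      BigSite.piEtPull KE X ⋙ BigSite.pushBig KE f AddCommGrpCat.{u + 1} :=
  NatIso.ofComponents (fun F => @asIso _ _ _ _ (compE f F) (isIso_compE f F (h F)))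
    (fun φ => compE_naturality f φ)

theorem isZero_of_resEtAlong {H : BigSite.Ab KE Y}
    (h : ∀ (T : Scheme.{u}) (t : T ⟶ Y), IsZero ((BigSite.resEtAlong KE t).obj H)) : IsZero H := by
  rw [IsZero.iff_id_eq_zero]
  have h1 : IsIso (0 : H ⟶ H) := by
    apply isIso_of_uRes
    intro T t
    have h2 : IsZero ((uRes t).obj H) := h T t
    exact ⟨0, h2.eq_of_src _ _, h2.eq_of_src _ _⟩
  have h2 : (0 : H ⟶ H) ≫ inv (0 : H ⟶ H) = 𝟙 H := IsIso.hom_inv_id _
  rw [← h2, zero_comp]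

/-- Vanishing of `R^q f_{big,*}` on a sheaf coming from the small étale site. -/
theorem isZero_RpushBig (F : EtCoh.Ab X) (q : ℕ)
    (hV : ∀ (T X' : Scheme.{u}) (t : T ⟶ Y) (f' : X' ⟶ T) (t' : X' ⟶ X) (_ : IsPullback t' f' f t),
      IsZero ((EtCoh.Rpush f' q).obj ((EtCoh.pull t').obj F))) :
    IsZero ((BigSite.RpushBig KE f q).obj ((BigSite.piEtPull KE X).obj F)) := by
  apply isZero_of_resEtAlong
  intro T t
  have hp := IsPullback.of_hasPullback f t
  have h1 := BC.RpushResIso hp ((BigSite.piEtPull KE X).obj F) q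
  refine IsZero.of_iso (hV _ _ t _ _ hp) (h1 ≪≫ ?_)
  exact (EtCoh.Rpush (pullback.snd f t) q).mapIso ((EtRes.pullIso (pullback.fst f t)).symm.app F)

/-- Degree-wise comparison when all the higher direct images vanish. -/
theorem nonempty_iso_of_vanishing (F : EtCoh.Ab X)
    (h0 : ∀ (F : EtCoh.Ab X) (T X' : Scheme.{u}) (t : T ⟶ Y) (f' : X' ⟶ T) (t' : X' ⟶ X) (hp : IsPullback t' f' f t),
      IsIso (EtCoh.baseChange0 f t f' t' hp.w F))
    (hV : ∀ (T X' : Scheme.{u}) (t : T ⟶ Y) (f' : X' ⟶ T) (t' : X' ⟶ X) (_ : IsPullback t' f' f t) (q : ℕ), 0 < q →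
      IsZero ((EtCoh.Rpush f' q).obj ((EtCoh.pull t').obj F)))
    (hV' : ∀ q : ℕ, 0 < q → IsZero ((EtCoh.Rpush f q).obj F)) (i : ℕ) :
    Nonempty ((BigSite.piEtPull KE Y).obj ((EtCoh.Rpush f i).obj F) ≅
      (BigSite.RpushBig KE f i).obj ((BigSite.piEtPull KE X).obj F)) := by
  cases i with
  | zero =>
    have : PreservesFiniteLimits (BigSite.pushBig KE f AddCommGrpCat.{u + 1}) := by
      have : PreservesLimitsOfSize.{0, 0} (BigSite.pushBig KE f AddCommGrpCat.{u + 1}) :=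
        (BigSite.bigAdj KE f AddCommGrpCat.{u + 1}).rightAdjoint_preservesLimits
      exact PreservesLimitsOfSize.preservesFiniteLimits _
    exact ⟨(BigSite.piEtPull KE Y).mapIso ((EtCoh.push f).rightDerivedZeroIsoSelf.app F) ≪≫
      (compEIso f h0).app F ≪≫
      ((BigSite.pushBig KE f AddCommGrpCat.{u + 1}).rightDerivedZeroIsoSelf.app
        ((BigSite.piEtPull KE X).obj F)).symm⟩
  | succ n =>
    have h1 : IsZero ((BigSite.piEtPull KE Y).obj ((EtCoh.Rpush f (n + 1)).obj F)) :=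
      (BigSite.piEtPull KE Y).map_isZero (hV' (n + 1) n.succ_pos)
    exact ⟨h1.iso (isZero_RpushBig f F (n + 1) (fun T X' t f' t' hp => hV T X' t f' t' hp (n + 1) n.succ_pos))⟩

/-- Comparison by effaceability. -/
theorem nonempty_iso_of_effaceable
    (h0 : ∀ (F : EtCoh.Ab X) (T X' : Scheme.{u}) (t : T ⟶ Y) (f' : X' ⟶ T) (t' : X' ⟶ X) (hp : IsPullback t' f' f t),
      IsIso (EtCoh.baseChange0 f t f' t' hp.w F))
    (P : ObjectProperty (EtCoh.Ab X)) (hP : ∀ {F F' : EtCoh.Ab X} (p : F ⟶ F') [Epi p], P F → P F')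
    (hI : ∀ F, P F → ∃ (I : EtCoh.Ab X) (i : F ⟶ I), Mono i ∧ P I ∧
      ∀ q, 0 < q → IsZero ((EtCoh.Rpush f q).obj I) ∧
        ∀ (T X' : Scheme.{u}) (t : T ⟶ Y) (f' : X' ⟶ T) (t' : X' ⟶ X) (_ : IsPullback t' f' f t),
          IsZero ((EtCoh.Rpush f' q).obj ((EtCoh.pull t').obj I)))
    (F : EtCoh.Ab X) (hF : P F) (i : ℕ) :
    Nonempty ((BigSite.piEtPull KE Y).obj ((EtCoh.Rpush f i).obj F) ≅
      (BigSite.RpushBig KE f i).obj ((BigSite.piEtPull KE X).obj F)) := by
  have : PreservesFiniteLimits (BigSite.pushBig KE f AddCommGrpCat.{u + 1}) := by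
    have : PreservesLimitsOfSize.{0, 0} (BigSite.pushBig KE f AddCommGrpCat.{u + 1}) :=
      (BigSite.bigAdj KE f AddCommGrpCat.{u + 1}).rightAdjoint_preservesLimits
    exact PreservesLimitsOfSize.preservesFiniteLimits _
  have i1 : PreservesFiniteLimits (BigSite.piEtPull KE X) := preservesFiniteLimits_piEtPull X KE
  have i2 : PreservesFiniteLimits (BigSite.piEtPull KE Y) := preservesFiniteLimits_piEtPull Y KE
  have i3 : PreservesFiniteLimits (EtCoh.push f) := by
    have : PreservesLimitsOfSize.{0, 0} (EtCoh.push f) := (EtCoh.pullPushAdj f).rightAdjoint_preservesLimits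
    exact PreservesLimitsOfSize.preservesFiniteLimits _
  refine Eff.nonempty_iso (EtCoh.push f) (BigSite.piEtPull KE Y) (BigSite.piEtPull KE X)
    (BigSite.pushBig KE f AddCommGrpCat.{u + 1}) (compEIso f h0) P hP ?_ F hF i
  intro F hF
  obtain ⟨I, i, hi, hPI, h⟩ := hI F hF
  exact ⟨I, i, hi, hPI, fun q hq => ⟨(h q hq).1, isZero_RpushBig f I q (h q hq).2⟩⟩

end K299.BigComp
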