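import Groth.Prelude.Def_BigSite
import Groth.Agent.Etrest.BigEtDescent
import Groth.Agent.S0632
import Groth.Agent.S0412

/-!
# Base change along a closed immersion is almost cocontinuous (étale and smooth topologies)
-/

set_option autoImplicit false
universe w u
open CategoryTheory CategoryTheory.Limits AlgebraicGeometry Opposite

namespace K299.ClosedImm

open Groth.Agent.Etrest.BigEtSite

theorem mem_smooth_iff {S : Scheme.{u}} {T : Over S} {R : Sieve T} :
    R ∈ QuotSh.J (Scheme.precoverage @Smooth) S T ↔ ∀ x : T.left, ∃ (Y : Over S) (g : Y ⟶ T), R g ∧ Smooth g.left ∧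
      x ∈ Set.range g.left := by
  have h1 : MorphismProperty.IsMultiplicative (C := Scheme.{u}) @Smooth :=
    { id_mem := fun X => inferInstanceAs (Smooth (𝟙 X)) }
  exact mem_over_grothendieckTopology_iff (P := @Smooth)

/-- every covering sieve for `K` is refined étale-locally. -/
theorem exists_etale {K : Precoverage Scheme.{u}} (hK : K = Scheme.etalePrecoverage ∨ K = Scheme.precoverage @Smooth)
    {S : Scheme.{u}} {T : Over S} {R : Sieve T} (hR : R ∈ QuotSh.J K S T) (x : T.left) :
    ∃ (Y : Over S) (g : Y ⟶ T), R g ∧ Etale g.left ∧ x ∈ Set.range g.left := by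
  rcases hK with rfl | rfl
  · exact mem_JE_iff.1 hR x
  · obtain ⟨Y, g, hg, hs, hx⟩ := mem_smooth_iff.1 hR x
    obtain ⟨S', k, s', hk, hs', h, hh⟩ := Groth.Agent.S0412.result g.left x hx
    refine ⟨Over.mk (k ≫ T.hom), Over.homMk k rfl, ?_, hk, ⟨s', hs'⟩⟩
    have := R.downward_closed hg (Over.homMk h (by
      rw [← Over.w g, ← Category.assoc, hh]
      rfl) : Over.mk (k ≫ T.hom) ⟶ Y)
    convert this using 1
    ext
    exact hh.symm

theorem le_J {K : Precoverage Scheme.{u}} (hK : K = Scheme.etalePrecoverage ∨ K = Scheme.precoverage @Smooth)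
    {S : Scheme.{u}} {T : Over S} {R : Sieve T} (hR : R ∈ JE S T) : R ∈ QuotSh.J K S T := by
  rcases hK with rfl | rfl
  · exact hR
  · exact BigSite.J_mono BigSite.etalePrecoverage_le_smoothPrecoverage S T hR

theorem isAlmostCocontinuous {X Y : Scheme.{u}} (f : X ⟶ Y) [IsClosedImmersion f]
    (K : Precoverage Scheme.{u}) (hK : K = Scheme.etalePrecoverage ∨ K = Scheme.precoverage @Smooth) :
    BigSite.IsAlmostCocontinuous (Over.pullback f) (QuotSh.J K Y) (QuotSh.J K X) := by
  intro V R hR
  let Z : Scheme.{u} := pullback V.hom f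
  let i : Z ⟶ V.left := pullback.fst V.hom f
  have hi : IsClosedImmersion i := inferInstanceAs (IsClosedImmersion (pullback.fst V.hom f))
  -- étale covering of `Z` in `R`
  choose W g hg het hz using fun z : Z => exists_etale hK hR z
  let g' : ∀ z : Z, (W z).left ⟶ Z := fun z => (g z).left
  have het' : ∀ z, Etale (g' z) := het
  let U : Z → Z.Etale := fun z => Scheme.Etale.mk (g' z)
  have hU : EtCoh.Covers U := fun z => by
    obtain ⟨y, hy⟩ := hz z
    exact ⟨z, y, hy⟩
  obtain ⟨κ, E, hE, hEi⟩ := Groth.Agent.S0632.result i U hU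
  let Ej : κ → Over Y := fun j => Over.mk ((E j).hom ≫ V.hom)
  let e : ∀ j, Ej j ⟶ V := fun j => Over.homMk (E j).hom rfl
  refine ⟨Sieve.ofArrows Ej e, le_J hK ?_, ?_⟩
  · rw [mem_JE_iff]
    intro x
    obtain ⟨j, y, hy⟩ := hE x
    exact ⟨Ej j, e j, Sieve.ofArrows_mk _ _ j, inferInstanceAs (Etale (E j).hom), ⟨y, hy⟩⟩
  · intro V' k hk
    rw [Sieve.mem_ofArrows_iff] at hk
    obtain ⟨j, a, rfl⟩ := hk
    -- the comparison `V' ×_Y X ⟶ E j ×_V Z`
    let c : ((Over.pullback f).obj (Ej j)).left ⟶ pullback (E j).hom i :=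
      pullback.lift (pullback.fst _ _) (((Over.pullback f).map (e j)).left) (by
        exact (pullback.lift_fst _ _ _).symm)
    rcases hEi j with h | ⟨z, h, hh⟩
    · left
      have h1 : IsEmpty ((Over.pullback f).obj V').left :=
        ⟨fun x => h.false (c (((Over.pullback f).map a).left x))⟩
      apply le_J hK
      rw [mem_JE_iff]
      intro x
      exact (h1.false x).elim
    · right
      rw [CategoryTheory.Functor.map_comp]
      apply R.downward_closed
      have hc : c ≫ pullback.snd (E j).hom i = ((Over.pullback f).map (e j)).left := pullback.lift_snd _ _ _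
      have hh' : h ≫ g' z = pullback.snd (E j).hom i := hh
      have hw : (c ≫ h) ≫ (g z).left = ((Over.pullback f).map (e j)).left := by
        rw [Category.assoc]
        exact (congrArg (fun t => c ≫ t) hh').trans hc
      let d : (Over.pullback f).obj (Ej j) ⟶ W z := Over.homMk (c ≫ h) (by
        rw [← Over.w (g z), ← Category.assoc]
        exact (congrArg (fun t => t ≫ ((Over.pullback f).obj V).hom) hw).trans (Over.w _))
      have hd : (Over.pullback f).map (e j) = d ≫ g z := by
        ext : 1
        exact hw.symm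
      rw [hd]
      exact R.downward_closed (hg z) d

end K299.ClosedImm
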