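import Groth.Agent.BigSite.K299.AlmostCocont
import Groth.Agent.BigSite.K299.ClosedImm

/-!
# `f_big,*` for a closed immersion commutes with connected colimits of sheaves of sets and with colimits of
abelian sheaves
-/

set_option autoImplicit false
universe w' w v₁ v₂ v₃ u₁ u₂ u₃ u

open CategoryTheory CategoryTheory.Limits AlgebraicGeometry Opposite

noncomputable section

namespace K299.ClosedPush

open AlmostCocont

section Types

variable {I : Type u₁} [Category.{v₁} I] [IsConnected I] {G : I ⥤ Type w} (c : Cocone G) (hc : IsColimit c)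
  (h0 : ∀ i, Subsingleton (G.obj i)) (h1 : ∀ i, Nonempty (G.obj i))

include hc h0 h1 in
theorem subsingleton_pt : Subsingleton c.pt where
  allEq x x' := by
    obtain ⟨i, y, rfl⟩ := Types.jointly_surjective_of_isColimit hc x
    obtain ⟨i', y', rfl⟩ := Types.jointly_surjective_of_isColimit hc x'
    let z : ∀ j, G.obj j := fun j => Classical.choice (h1 j)
    have h4 := constant_of_preserves_morphisms (fun j : I => c.ι.app j (z j)) (fun j₁ j₂ f => by
      have h5 := ConcreteCategory.congr_hom (c.w f) (z j₁)
      have h6 := h0 j₂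
      rw [← h5, ConcreteCategory.comp_apply]
      exact congrArg (c.ι.app j₂) (Subsingleton.elim _ _)) i i'
    have h7 := h0 i
    have h8 := h0 i'
    rw [Subsingleton.elim y (z i), Subsingleton.elim y' (z i')]
    exact h4

include h1 in
omit [IsConnected I] in
theorem nonempty_pt [Nonempty I] : Nonempty c.pt := by
  obtain ⟨y⟩ := h1 (Classical.arbitrary I)
  exact ⟨c.ι.app _ y⟩

end Types

section Ab

variable {I : Type u₁} [Category.{v₁} I] {G : I ⥤ AddCommGrpCat.{w}} (c : Cocone G) (hc : IsColimit c)
  (h0 : ∀ i, IsZero (G.obj i))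

include hc h0 in
theorem isZero_pt : IsZero c.pt := by
  rw [IsZero.iff_id_eq_zero]
  apply hc.hom_ext
  intro j
  exact (h0 j).eq_of_src _ _

end Ab

section Main

variable {C : Type u₁} [Category.{v₁} C] {D : Type u₂} [Category.{v₂} D] {F : C ⥤ D}
  {J : GrothendieckTopology C} {L : GrothendieckTopology D} [F.IsContinuous J L]
  (hF : BigSite.IsAlmostCocontinuous F J L) {I : Type u₃} [Category.{v₃} I]

include hF in
/-- sheaves of sets, connected colimits. -/
theorem preservesColimitsOfShape_type [HasSheafify L (Type w)] [J.WEqualsLocallyBijective (Type w)]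
    [L.WEqualsLocallyBijective (Type w)] [IsConnected I] [HasColimitsOfShape I (Type w)] :
    PreservesColimitsOfShape I (F.sheafPushforwardContinuous (Type w) J L) where
  preservesColimit {K} := by
    let E := colimit.cocone (K ⋙ sheafToPresheaf L (Type w))
    have hE : IsColimit E := colimit.isColimit _
    have h : ∀ V : D, (⊥ : Sieve V) ∈ L V → (∀ i, Subsingleton ((K.obj i).obj.obj (op V))) ∧
        ∀ i, Nonempty ((K.obj i).obj.obj (op V)) := by
      intro V hV
      refine ⟨fun i => ?_, fun i => ?_⟩
      · have := (Sheaf.isTerminalOfBotCover (K.obj i) V hV)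
        exact ((Types.isTerminalEquivUnique _).1 this).instSubsingleton
      · have := (Sheaf.isTerminalOfBotCover (K.obj i) V hV)
        exact ⟨((Types.isTerminalEquivUnique _).1 this).default⟩
    have hc : ∀ V : D, IsColimit (((evaluation _ (Type w)).obj (op V)).mapCocone E) := fun V =>
      isColimitOfPreserves _ hE
    have h0 : ∀ V : D, (⊥ : Sieve V) ∈ L V → Subsingleton (E.pt.obj (op V)) := fun V hV =>
      subsingleton_pt _ (hc V) (h V hV).1 (h V hV).2
    have h1 : ∀ V : D, (⊥ : Sieve V) ∈ L V → Nonempty (E.pt.obj (op V)) := fun V hV =>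
      nonempty_pt (((evaluation _ (Type w)).obj (op V)).mapCocone E) (h V hV).2
    have h2 : ∀ V : D, (⊥ : Sieve V) ∈ L V → Subsingleton ((CategoryTheory.sheafify L E.pt).obj (op V)) :=
      fun V hV => by
        have := (Sheaf.isTerminalOfBotCover ((presheafToSheaf L (Type w)).obj E.pt) V hV)
        exact ((Types.isTerminalEquivUnique _).1 this).instSubsingleton
    refine preservesColimit K E hE ?_
    have i1 := isLocallyInjective_whisker F J L hF (CategoryTheory.toSheafify L E.pt) inferInstance h0
    have i2 := isLocallySurjective_whisker F J L hF (CategoryTheory.toSheafify L E.pt) inferInstance h1 h2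
    exact J.W_of_isLocallyBijective _

include hF in
/-- abelian sheaves, all colimits. -/
theorem preservesColimitsOfShape_ab [HasSheafify L AddCommGrpCat.{w}] (hJ : J.WEqualsLocallyBijective AddCommGrpCat.{w})
    (hL : L.WEqualsLocallyBijective AddCommGrpCat.{w}) [HasColimitsOfShape I AddCommGrpCat.{w}] :
    PreservesColimitsOfShape I (F.sheafPushforwardContinuous AddCommGrpCat.{w} J L) where
  preservesColimit {K} := by
    let E := colimit.cocone (K ⋙ sheafToPresheaf L AddCommGrpCat.{w})
    have hE : IsColimit E := colimit.isColimit _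
    have h : ∀ V : D, (⊥ : Sieve V) ∈ L V → ∀ i, IsZero ((K.obj i).obj.obj (op V)) := by
      intro V hV i
      have := (Sheaf.isTerminalOfBotCover (K.obj i) V hV)
      exact (isZero_zero _).of_iso (this.uniqueUpToIso (isZero_zero _).isTerminal)
    have hc : ∀ V : D, IsColimit (((evaluation _ AddCommGrpCat.{w}).obj (op V)).mapCocone E) := fun V =>
      isColimitOfPreserves _ hE
    have h0 : ∀ V : D, (⊥ : Sieve V) ∈ L V → Subsingleton (E.pt.obj (op V)) := fun V hV =>
      AddCommGrpCat.subsingleton_of_isZero (isZero_pt _ (hc V) (h V hV))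
    have h2 : ∀ V : D, (⊥ : Sieve V) ∈ L V → Subsingleton ((CategoryTheory.sheafify L E.pt).obj (op V)) :=
      fun V hV => by
        have := (Sheaf.isTerminalOfBotCover ((presheafToSheaf L AddCommGrpCat.{w}).obj E.pt) V hV)
        exact AddCommGrpCat.subsingleton_of_isZero
          ((isZero_zero _).of_iso (this.uniqueUpToIso (isZero_zero _).isTerminal))
    refine preservesColimit K E hE ?_
    have i1 := isLocallyInjective_whisker F J L hF (CategoryTheory.toSheafify L E.pt) inferInstance h0
    have i2 := isLocallySurjective_whisker F J L hF (CategoryTheory.toSheafify L E.pt) inferInstance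
      (fun V _ => ⟨0⟩) h2
    exact J.W_of_isLocallyBijective _

end Main

section Big

theorem wEq (K : Precoverage Scheme.{u}) (S : Scheme.{u}) :
    (QuotSh.J K S).WEqualsLocallyBijective AddCommGrpCat.{u + 1} :=
  GrothendieckTopology.WEqualsLocallyBijective.mk' (J := QuotSh.J K S) (A := AddCommGrpCat.{u + 1})

variable {X Y : Scheme.{u}} (f : X ⟶ Y) [IsClosedImmersion f]
    (K : Precoverage Scheme.{u}) (hK : K = Scheme.etalePrecoverage ∨ K = Scheme.precoverage @Smooth)

include hK

theorem preservesColimitsOfShape_pushBig_type (I : Type u₁) [Category.{v₁} I] [IsConnected I]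
    [HasColimitsOfShape I (Type (u + 1))] :
    PreservesColimitsOfShape I (BigSite.pushBig K f (Type (u + 1))) :=
  preservesColimitsOfShape_type (ClosedImm.isAlmostCocontinuous f K hK)

theorem preservesColimitsOfShape_pushBig_ab (I : Type u₁) [Category.{v₁} I]
    [HasColimitsOfShape I AddCommGrpCat.{u + 1}] :
    PreservesColimitsOfShape I (BigSite.pushBig K f AddCommGrpCat.{u + 1}) := by
  have h1 : (QuotSh.J K X).WEqualsLocallyBijective AddCommGrpCat.{u + 1} := wEq K X
  have h2 : (QuotSh.J K Y).WEqualsLocallyBijective AddCommGrpCat.{u + 1} := wEq K Y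
  have h3 : HasSheafify (QuotSh.J K X) AddCommGrpCat.{u + 1} := inferInstance
  exact @preservesColimitsOfShape_ab.{u + 1} _ _ _ _ (Over.pullback f) (QuotSh.J K Y) (QuotSh.J K X) _
    (ClosedImm.isAlmostCocontinuous f K hK) I _ h3 h2 h1 _

end Big

end K299.ClosedPush
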