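import Groth.Agent.Etrest.RAcyc
import Mathlib.Algebra.Homology.ShortComplex.PreservesHomology

/-!
# Right derived functors and exact functors

* `isZero_rightDerived_of_exact`: the higher right derived functors of an exact functor vanish.
* `derIso`: for `F ⋙ G₁ ≅ G₂ ⋙ F'` with `G₁`, `G₂` exact and `G₂` preserving injectives,
  `G₁ (R^q F X) ≅ R^q F' (G₂ X)`.
-/

set_option autoImplicit false
universe w w' v₁ v₂ v₃ v₄ u₁ u₂ u₃ u₄

open CategoryTheory CategoryTheory.Limits

noncomputable section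

namespace K299.DerComm

open Groth.Agent.Etrest

section Vanish

variable {C : Type u₁} [Category.{v₁} C] [Abelian C] [EnoughInjectives C]
  {D : Type u₂} [Category.{v₂} D] [Abelian D]

theorem isZero_rightDerived_of_exact (R : C ⥤ D) [R.Additive] [PreservesFiniteLimits R]
    [PreservesFiniteColimits R] (G : C) (q : ℕ) (hq : 0 < q) : IsZero ((R.rightDerived q).obj G) := by
  refine RAcyc.isZero_rightDerived_of_class R (fun _ => True) (fun S hS _ _ => ⟨trivial, ?_⟩) trivial q hq
  have := hS.epi_g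
  infer_instance

end Vanish

section Comm

variable {C : Type u₁} [Category.{v₁} C] [Abelian C] [HasInjectiveResolutions C]
  {D : Type u₂} [Category.{v₂} D] [Abelian D]
  {C' : Type u₃} [Category.{v₃} C'] [Abelian C'] [HasInjectiveResolutions C']
  {D' : Type u₄} [Category.{v₄} D'] [Abelian D']
  (F : C ⥤ D) (G₁ : D ⥤ D') (G₂ : C ⥤ C') (F' : C' ⥤ D')
  [F.Additive] [G₁.Additive] [G₂.Additive] [F'.Additive]
  [PreservesFiniteLimits G₁] [PreservesFiniteColimits G₁]
  [PreservesFiniteLimits G₂]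

/-- `R^q (G₂ ⋙ F')` computed by an injective resolution whose image under `G₂` is exact. -/
def derIsoOfAcyclic (e : F ⋙ G₁ ≅ G₂ ⋙ F') (hinj : ∀ J : C, Injective J → Injective (G₂.obj J)) (X : C)
    (I : InjectiveResolution X)
    (h : ∀ n, ((G₂.mapHomologicalComplex (ComplexShape.up ℕ)).obj I.cocomplex).ExactAt (n + 1)) (q : ℕ) :
    G₁.obj ((F.rightDerived q).obj X) ≅ (F'.rightDerived q).obj (G₂.obj X) :=
  G₁.mapIso (I.isoRightDerivedObj F q) ≪≫
    ((((F.mapHomologicalComplex (ComplexShape.up ℕ)).obj I.cocomplex).sc q).mapHomologyIso G₁).symm ≪≫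
    ShortComplex.homologyMapIso ((I.cocomplex.sc q).mapNatIso e) ≪≫
    ((RAcyc.mapResolution G₂ I hinj h).isoRightDerivedObj F' q).symm

/-- `G₁ (R^q F X) ≅ R^q F' (G₂ X)` for exact `G₁`, `G₂`. -/
def derIso [EnoughInjectives C] [PreservesFiniteColimits G₂] (e : F ⋙ G₁ ≅ G₂ ⋙ F')
    (hinj : ∀ J : C, Injective J → Injective (G₂.obj J)) (X : C) (q : ℕ) :
    G₁.obj ((F.rightDerived q).obj X) ≅ (F'.rightDerived q).obj (G₂.obj X) :=
  derIsoOfAcyclic F G₁ G₂ F' e hinj X (InjectiveResolution.of X)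
    (fun n => RAcyc.exactAt_of_isZero_rightDerived G₂ (InjectiveResolution.of X) (n + 1)
      (isZero_rightDerived_of_exact G₂ X (n + 1) n.succ_pos)) q

end Comm

end K299.DerComm
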