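import Groth.Agent.BigSite.K299.PullInj
import Groth.Agent.BigSite.K299.DerComm
import Groth.Agent.Etbase.LanFlat
import Groth.Agent.Etrest.BigEtSite
import Mathlib.CategoryTheory.Sites.ConstantSheaf

/-!
# Restriction from the big to the small étale site: exactness, injectives, cohomology
-/

set_option autoImplicit false
universe w w' v₁ v₂ v₃ v₄ u₁ u₂ u₃ u₄ u

open CategoryTheory CategoryTheory.Limits AlgebraicGeometry Opposite

noncomputable section

namespace K299.EtRes

open Groth.Agent.Etrest Groth.Agent.Etrest.BigEtSite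

/-- The étale precoverage. -/
abbrev KE : Precoverage Scheme.{u} := Scheme.etalePrecoverage

variable (S : Scheme.{u})

/-- `π⁻¹` is exact, for every `K` for which étale coverings are `K`-coverings. -/
theorem preservesFiniteLimits_piEtPull (K : Precoverage Scheme.{u}) [BigSite.AEtCont K S] :
    PreservesFiniteLimits (BigSite.piEtPull K S) := by
  have hfl : ∀ L : (Over S)ᵒᵖ, IsFiltered (CostructuredArrow (EtFppf.a S).op L) := fun L =>
    IsFiltered.of_equivalence (structuredArrowOpEquivalence (EtFppf.a S) (unop L))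
  have : ∀ L : (Over S)ᵒᵖ, HasColimitsOfShape (CostructuredArrow (EtFppf.a S).op L)
      AddCommGrpCat.{u + 1} := fun L => inferInstance
  have : PreservesFiniteLimits ((EtFppf.a S).op.lan :
      (_ ⥤ AddCommGrpCat.{u + 1}) ⥤ (Over S)ᵒᵖ ⥤ AddCommGrpCat.{u + 1}) :=
    Groth.Agent.Etbase.LanFlat.preservesFiniteLimits_op_lan _ _ (fun L => by
      have := hfl L
      have : HasFilteredColimitsOfSize.{u, u + 1} AddCommGrpCat.{u + 1} :=
        hasFilteredColimitsOfSize_shrink.{u, u + 1, u + 1, u + 1}
      have : AB5OfSize.{u, u + 1} AddCommGrpCat.{u + 1} := AB5OfSize_shrink.{u, u + 1, u + 1, u + 1} _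
      exact HasExactColimitsOfShape.preservesFiniteLimits)
  exact Functor.sheafPullbackConstruction.preservesFiniteLimits _ _ _ _

/-- Restriction preserves injectives. -/
theorem injective_resEt (K : Precoverage Scheme.{u}) [BigSite.AEtCont K S] (I : BigSite.Ab K S) [Injective I] :
    Injective ((BigSite.resEt K S).obj I) := by
  have := preservesFiniteLimits_piEtPull S K
  exact Injective.injective_of_adjoint (BigSite.piEtAdj K S) I

instance preservesColimits_resEt (K : Precoverage Scheme.{u}) [BigSite.AEtCont K S] [BigSite.AEtCocont K S] :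
    PreservesFiniteColimits (BigSite.resEt K S) := by
  have : PreservesColimitsOfSize.{0, 0} (BigSite.resEt K S) :=
    (BigSite.iEtAdj K S).leftAdjoint_preservesColimits
  exact PreservesColimitsOfSize.preservesFiniteColimits _

instance preservesLimits_resEt (K : Precoverage Scheme.{u}) [BigSite.AEtCont K S] :
    PreservesFiniteLimits (BigSite.resEt K S) := by
  have : PreservesLimitsOfSize.{0, 0} (BigSite.resEt K S) :=
    (BigSite.piEtAdj K S).rightAdjoint_preservesLimits
  exact PreservesLimitsOfSize.preservesFiniteLimits _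

theorem isZero_RresEt (F : BigSite.Ab KE S) (q : ℕ) (hq : 0 < q) :
    IsZero ((BigSite.RresEt KE S q).obj F) :=
  DerComm.isZero_rightDerived_of_exact (BigSite.resEt KE S) F q hq

/-- `Over.mk (𝟙 X)` is the image of the terminal object of the small étale site. -/
def isTerminalTop : IsTerminal (EtCoh.top S) :=
  IsTerminal.isTerminalOfObj (Scheme.Etale.forget S) (EtCoh.top S) Over.mkIdTerminal

/-- `π⁻¹` of a constant sheaf. -/
def constIso (K : Precoverage Scheme.{u}) [BigSite.AEtCont K S] (M : AddCommGrpCat.{u + 1}) :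
    (BigSite.piEtPull K S).obj ((constantSheaf S.smallEtaleTopology AddCommGrpCat.{u + 1}).obj M) ≅
      (constantSheaf (QuotSh.J K S) AddCommGrpCat.{u + 1}).obj M :=
  (Adjunction.leftAdjointUniq
    ((constantSheafAdj S.smallEtaleTopology AddCommGrpCat.{u + 1} (isTerminalTop S)).comp (BigSite.piEtAdj K S))
    (constantSheafAdj (QuotSh.J K S) AddCommGrpCat.{u + 1} (Over.mkIdTerminal : IsTerminal (Over.mk (𝟙 S))))).app M

/-- transport of `Ext` along an isomorphism. -/
def extEquivOfIso {C : Type w} [Category.{w'} C] [Abelian C] [HasExt.{v₁} C] {A B : C} (e : A ≅ B) (F : C) (p : ℕ) :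
    Abelian.Ext.{v₁} A F p ≃+ Abelian.Ext.{v₁} B F p :=
  (((Abelian.extFunctor p).mapIso e.symm.op).app F).addCommGroupIsoToAddEquiv

/-- transport of `Ext` along an isomorphism. -/
def extEquivOfIso' {C : Type w} [Category.{w'} C] [Abelian C] [HasExt.{v₁} C] {A B : C} (e : A ≅ B) (Z : C) (p : ℕ) :
    Abelian.Ext.{v₁} Z A p ≃+ Abelian.Ext.{v₁} Z B p :=
  ((Abelian.extFunctorObj Z p).mapIso e).addCommGroupIsoToAddEquiv

/-- `Ext`-comparison along an adjunction with an exact right adjoint preserving injectives, including a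
change of the first argument. -/
theorem nonempty_ext_comparison {C : Type w} [Category.{w'} C] [Abelian C] [HasExt.{v₁} C] [EnoughInjectives C]
    {D : Type u₂} [Category.{v₂} D] [Abelian D] [HasExt.{v₃} D] {L : D ⥤ C} {R : C ⥤ D} (adj : L ⊣ R) [R.Additive]
    [PreservesFiniteLimits R] [PreservesFiniteColimits R] (hinj : ∀ J : C, Injective J → Injective (R.obj J))
    (A : D) (B : C) (e : L.obj A ≅ B) (F : C) (p : ℕ) :
    Nonempty (Abelian.Ext.{v₃} A (R.obj F) p ≃+ Abelian.Ext.{v₁} B F p) := by
  obtain ⟨e1⟩ := RAcyc.nonempty_extAddEquiv adj hinj (G := F)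
    (fun q hq => DerComm.isZero_rightDerived_of_exact R F q hq) A p
  exact ⟨e1.trans (extEquivOfIso e F p)⟩

/-- `H^p(S_et, F|) ≃ H^p(big, F)`. -/
theorem nonempty_H_resEt (F : BigSite.Ab KE S) (p : ℕ) :
    Nonempty (EtCoh.H S ((BigSite.resEt KE S).obj F) p ≃+ BigSite.H KE S F p) :=
  nonempty_ext_comparison (BigSite.piEtAdj KE S) (fun I _ => injective_resEt S KE I) _ _
    (constIso S KE (AddCommGrpCat.of (ULift ℤ))) F p

variable {S} {T : Scheme.{u}} (f : T ⟶ S)

instance preservesFiniteColimits_resEtAlong (K : Precoverage Scheme.{u}) [BigSite.AEtCont K T]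
    [BigSite.AEtCocont K T] : PreservesFiniteColimits (BigSite.resEtAlong K f) :=
  comp_preservesFiniteColimits _ _

instance preservesFiniteLimits_resEtAlong (K : Precoverage Scheme.{u}) [BigSite.AEtCont K T] :
    PreservesFiniteLimits (BigSite.resEtAlong K f) :=
  comp_preservesFiniteLimits _ _

instance additive_resEtAlong (K : Precoverage Scheme.{u}) [BigSite.AEtCont K T] :
    (BigSite.resEtAlong K f).Additive where

theorem injective_resEtAlong (K : Precoverage Scheme.{u}) [BigSite.AEtCont K T] (I : BigSite.Ab K S) [Injective I] :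
    Injective ((BigSite.resEtAlong K f).obj I) := by
  have := PullInj.injective_pullBig K f I
  exact injective_resEt T K _

/-- `f⁻¹ F` is the restriction of `π⁻¹ F`. -/
def pullIso : EtCoh.pull f ≅ BigSite.piEtPull KE S ⋙ BigSite.resEtAlong KE f :=
  Groth.Agent.Etrest.BigEtSite.pullIso f

end K299.EtRes
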