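import Groth.Prelude.Def_BigSite
import Groth.Prelude.Def_SGA4b
import Groth.Agent.Etrest.BigEtSite
import Groth.Agent.Etrest.RanExact
import Mathlib.CategoryTheory.Monad.Adjunction

/-!
# The unit of `π⁻¹ ⊣ π_*` on the big étale site is an isomorphism
-/

set_option autoImplicit false
universe w' w v₁ v₂ v₃ u₁ u₂ u₃ u

open CategoryTheory CategoryTheory.Limits AlgebraicGeometry Opposite

noncomputable section

namespace K299.EtUnit

open Groth.Agent.Etrest Groth.Agent.Etrest.BigEtSite

section General

variable {C : Type u₁} [Category.{v₁} C] {D : Type u₃} [Category.{v₃} D] (A : Type w) [Category.{w'} A]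
  (a : C ⥤ D) [a.Full] [a.Faithful] (J : GrothendieckTopology C) (K : GrothendieckTopology D)
  [∀ (F : Cᵒᵖ ⥤ A), a.op.HasPointwiseRightKanExtension F]
  [a.IsContinuous J K] [a.IsCocontinuous J K]
  [(a.sheafPushforwardContinuous A J K).IsRightAdjoint]

/-- `a` is its own relative adjoint. -/
theorem isRelAdj_self : RanExact.IsRelAdj a a (𝟭 C) (a.leftUnitor.hom : 𝟭 C ⋙ a ⟶ a) where
  exists_lift g := ⟨a.preimage g, by simp⟩
  hom_ext h h' e := a.map_injective (by simpa using e)

instance isRightAdjoint_id : ((𝟭 C).sheafPushforwardContinuous A J J).IsRightAdjoint :=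
  ⟨_, ⟨Adjunction.id.ofNatIsoRight (Functor.sheafPushforwardContinuousId A J).symm⟩⟩

/-- pullback along the identity. -/
def pullId : (𝟭 C).sheafPullback A J J ≅ 𝟭 (Sheaf J A) :=
  Adjunction.leftAdjointUniq (((𝟭 C).sheafAdjunctionContinuous A J J).ofNatIsoRight
    (Functor.sheafPushforwardContinuousId A J)) Adjunction.id

theorem isIso_unit : IsIso (a.sheafAdjunctionContinuous A J K).unit :=
  (a.sheafAdjunctionContinuous A J K).isIso_unit_of_iso
    ((RanExact.pullbackIso A a a (𝟭 C) a.leftUnitor.hom J J K (isRelAdj_self a)).symm.trans (pullId A J))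

end General

end K299.EtUnit
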