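import Mathlib.AlgebraicGeometry.Morphisms.Flat
import Mathlib.AlgebraicGeometry.Limits

/-!
# Finite jointly surjective families of flat quasi-compact morphisms are quotient maps
-/

set_option autoImplicit false
universe u

open CategoryTheory CategoryTheory.Limits AlgebraicGeometry

namespace K299.FinQuot

variable {κ : Type} [Finite κ] {V : Scheme.{u}} {W : κ → Scheme.{u}} (w : ∀ k, W k ⟶ V)

omit [Finite κ] in
theorem desc_ι_apply (k : κ) (y : W k) : (Sigma.desc w) ((Sigma.ι W k) y) = (w k) y := by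
  rw [← Scheme.Hom.comp_apply, Sigma.ι_desc]

omit [Finite κ] in
theorem preimage_eq (E : Set V) : (Sigma.desc w) ⁻¹' E = ⋃ k, (Sigma.ι W k) '' ((w k) ⁻¹' E) := by
  ext x
  constructor
  · intro hx
    obtain ⟨k, y, rfl⟩ := (sigmaOpenCover W).exists_eq x
    refine Set.mem_iUnion.2 ⟨k, y, ?_, rfl⟩
    rw [Set.mem_preimage, ← desc_ι_apply w k y]
    exact hx
  · intro hx
    obtain ⟨k, y, hy, rfl⟩ := Set.mem_iUnion.1 hx
    rw [Set.mem_preimage, desc_ι_apply w k y]
    exact hy

theorem quasiCompact_sigmaDesc [∀ k, QuasiCompact (w k)] : QuasiCompact (Sigma.desc w) := by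
  rw [quasiCompact_iff]
  intro U hU hc
  rw [preimage_eq]
  exact isCompact_iUnion fun k => (QuasiCompact.isCompact_preimage (f := w k) U hU hc).image
    (Sigma.ι W k).continuous

theorem isOpen_of_preimage [∀ k, Flat (w k)] [∀ k, QuasiCompact (w k)]
    (hs : ∀ v : V, ∃ (k : κ) (y : W k), (w k) y = v) (E : Set V) (h : ∀ k, IsOpen ((w k) ⁻¹' E)) : IsOpen E := by
  have h1 := quasiCompact_sigmaDesc w
  have h2 : Surjective (Sigma.desc w) := ⟨fun v => by
    obtain ⟨k, y, rfl⟩ := hs v
    exact ⟨(Sigma.ι W k) y, desc_ι_apply w k y⟩⟩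
  have h3 := Flat.isQuotientMap_of_surjective (Sigma.desc w)
  rw [← h3.isOpen_preimage, preimage_eq]
  exact isOpen_iUnion fun k => (Sigma.ι W k).isOpenEmbedding.isOpenMap _ (h k)

end K299.FinQuot
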