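import Groth.Agent.BigSite.K299.FinQuot
import Groth.Agent.Etrest.BigEtDescent
import Groth.Agent.Desc.FpqcRefine

/-!
# `π⁻¹ F` is a sheaf for the fpqc topology
-/

set_option autoImplicit false
universe w u
open CategoryTheory CategoryTheory.Limits AlgebraicGeometry Opposite

noncomputable section

namespace K299.FpqcDescent

open Groth.Agent.Etrest.BigEtSite

variable {S : Scheme.{u}} (F : EtCoh.Ab S)

/-- The locus where a section of `π⁻¹ F` vanishes étale locally. -/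
def Z {T : Over S} (d : GE F T) : Set T.left :=
  {x | ∃ (T' : Over S) (g : T' ⟶ T), Etale g.left ∧ x ∈ Set.range g.left ∧ res F g d = 0}

theorem isOpen_Z {T : Over S} (d : GE F T) : IsOpen (Z F d) := by
  rw [isOpen_iff_mem_nhds]
  rintro _ ⟨T', g, hg, ⟨y, rfl⟩, h⟩
  refine Filter.mem_of_superset (g.left.isOpenMap.isOpen_range.mem_nhds ⟨y, rfl⟩) ?_
  rintro _ ⟨z, rfl⟩
  exact ⟨T', g, hg, ⟨z, rfl⟩, h⟩

theorem etale_of_pb {P T T' T'' : Scheme.{u}} {p : P ⟶ T'} {q : P ⟶ T''} {g : T' ⟶ T} {k : T'' ⟶ T}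
    (h : IsPullback p q g k) (hg : Etale g) : Etale q :=
  MorphismProperty.of_isPullback (P := @Etale) h hg

theorem mem_Z_res_iff {T T'' : Over S} (k : T'' ⟶ T) (d : GE F T) (x : T''.left) :
    x ∈ Z F (res F k d) ↔ k.left x ∈ Z F d := by
  constructor
  · rintro ⟨T₂, g₂, hg₂, ⟨x₂, rfl⟩, h₂⟩
    obtain ⟨T₁, g, U, h, t, hg, ⟨x₁, hx₁⟩, e⟩ := exists_sec F d (k.left (g₂.left x₂))
    obtain ⟨P, p, q, hpq, -, hP⟩ := exists_pb g (g₂ ≫ k)
    obtain ⟨z, hz, hz'⟩ := hP x₁ x₂ (hx₁.trans (by rw [Over.comp_left, Scheme.Hom.comp_apply]))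
    have h3 : sec F (p ≫ h) t = 0 := by
      rw [← res_sec, ← e, res_res, hpq, ← Category.assoc, ← res_res, ← res_res, h₂, res_zero]
    obtain ⟨W, j, ⟨w, hw⟩, hj⟩ := (sec_eq_zero_iff F (p ≫ h) t).1 h3 z
    rw [Over.comp_left, Scheme.Hom.comp_apply, hz] at hw
    obtain ⟨Q, a, b, hab, hpb, hQ⟩ := exists_pb h ((EtFppf.a S).map j)
    obtain ⟨v, hv, -⟩ := hQ x₁ w hw.symm
    have hj' : Etale ((EtFppf.a S).map j).left := inferInstanceAs (Etale j.left)
    have ha : Etale a.left := etale_of_pb hpb.flip hj'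
    refine ⟨Q, a ≫ g, ?_, ⟨v, ?_⟩, ?_⟩
    · rw [Over.comp_left]
      infer_instance
    · rw [Over.comp_left, Scheme.Hom.comp_apply, hv, hx₁]
    · rw [← res_res, e, res_sec, hab, sec_map, hj, sec_zero]
  · rintro ⟨T', g, hg, ⟨y, hy⟩, h⟩
    obtain ⟨P, p, q, hpq, hpb, hP⟩ := exists_pb g k
    obtain ⟨z, -, hz⟩ := hP y x hy
    refine ⟨P, q, etale_of_pb hpb hg, ⟨z, hz⟩, ?_⟩
    rw [res_res, ← hpq, ← res_res, h, res_zero]

theorem eq_of_Z {T : Over S} (s s' : GE F T) (h : ∀ x, x ∈ Z F (s - s')) : s = s' := by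
  rw [← sub_eq_zero]
  apply eq_of_etale_local
  intro x
  obtain ⟨T', g, h1, h2, h3⟩ := h x
  exact ⟨T', g, h1, h2, by rw [h3, res_zero]⟩

theorem mem_Z_zero {T : Over S} (x : T.left) : x ∈ Z F (0 : GE F T) :=
  ⟨T, 𝟙 T, inferInstanceAs (Etale (𝟙 T.left)), ⟨x, rfl⟩, res_zero F _⟩

/-- The key local statement. -/
theorem exists_local {T O : Over S} (o : O ⟶ T) (ho : Etale o.left) {κ : Type} [Finite κ] {T' : κ → Over S}
    (g : ∀ k, T' k ⟶ O) (hfl : ∀ k, Flat (g k).left) (hqc : ∀ k, QuasiCompact (g k).left)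
    (hs : ∀ x : O.left, ∃ (k : κ) (y : (T' k).left), (g k).left y = x) (s : ∀ k, GE F (T' k))
    (hcomp : ∀ (k l : κ) (A : Over S) (a : A ⟶ T' k) (b : A ⟶ T' l), a ≫ g k = b ≫ g l →
      res F a (s k) = res F b (s l)) (x : O.left) :
    ∃ (V : Over S) (j : V ⟶ T) (t : GE F V) (W : κ → Over S) (q : ∀ k, W k ⟶ V) (e : ∀ k, W k ⟶ T' k),
      Etale j.left ∧ o.left x ∈ Set.range j.left ∧ (∀ k, e k ≫ g k ≫ o = q k ≫ j) ∧
      (∀ v : V.left, ∃ (k : κ) (w : (W k).left), (q k).left w = v) ∧ ∀ k, res F (q k) t = res F (e k) (s k) := by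
  obtain ⟨k₀, y₀, rfl⟩ := hs x
  obtain ⟨W₀, e₀, U, h₀, t, he₀, ⟨w₀, hw₀⟩, es₀⟩ := exists_sec F (s k₀) y₀
  let V : Over S := Over.mk (pullback.snd U.hom O.hom ≫ O.hom)
  let pT : V ⟶ O := Over.homMk (pullback.snd U.hom O.hom) rfl
  let pU : V ⟶ (EtFppf.a S).obj U := Over.homMk (pullback.fst U.hom O.hom) pullback.condition
  let wV : W₀ ⟶ V := Over.homMk (pullback.lift h₀.left (e₀ ≫ g k₀).left ((Over.w h₀).trans
      (Over.w (e₀ ≫ g k₀)).symm))
    (((Category.assoc _ _ _).symm.trans (congrArg (· ≫ O.hom) (pullback.lift_snd _ _ _))).trans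
      (Over.w (e₀ ≫ g k₀)))
  have hw1 : wV ≫ pT = e₀ ≫ g k₀ := by
    ext
    exact pullback.lift_snd _ _ _
  have hw2 : wV ≫ pU = h₀ := by
    ext
    exact pullback.lift_fst _ _ _
  have hpT : Etale pT.left := inferInstanceAs (Etale (pullback.snd U.hom O.hom))
  -- the pullbacks `V ×_O T' k`
  choose P a b hab hpb hP using fun k => exists_pb pT (g k)
  let t' : GE F V := sec F pU t
  let d : ∀ k, GE F (P k) := fun k => res F (b k) (s k) - res F (a k) t'
  let E : Set V.left := {v | ∃ (k : κ) (y : (P k).left), (a k).left y = v ∧ y ∈ Z F (d k)}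
  -- independence of the choices
  have key : ∀ (k l : κ) (y : (P k).left) (z : (P l).left), (a k).left y = (a l).left z → y ∈ Z F (d k) →
      z ∈ Z F (d l) := by
    intro k l y z hyz hy
    obtain ⟨Q, r₁, r₂, hr, -, hQ⟩ := exists_pb (a k) (a l)
    obtain ⟨v, hv₁, hv₂⟩ := hQ y z hyz
    have h1 : res F r₁ (d k) = res F r₂ (d l) := by
      rw [res_sub, res_sub, res_res, res_res, res_res, res_res, hr]
      congr 1
      apply hcomp
      rw [Category.assoc, Category.assoc, ← hab, ← hab, reassoc_of% hr]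
    rw [← hv₂, ← mem_Z_res_iff, ← h1, mem_Z_res_iff, hv₁]
    exact hy
  have hpre : ∀ k, (a k).left ⁻¹' E = Z F (d k) := by
    intro k
    ext y
    constructor
    · rintro ⟨l, z, hz, hz'⟩
      exact key l k z y hz hz'
    · intro hy
      exact ⟨k, y, rfl, hy⟩
  have hEo : IsOpen E := by
    have i1 : ∀ k, Flat (a k).left := fun k => MorphismProperty.of_isPullback (P := @Flat) (hpb k).flip (hfl k)
    have i2 : ∀ k, QuasiCompact (a k).left :=
      fun k => MorphismProperty.of_isPullback (P := @QuasiCompact) (hpb k).flip (hqc k)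
    refine FinQuot.isOpen_of_preimage (fun k => (a k).left) (fun v => ?_) E (fun k => ?_)
    · obtain ⟨k, y, hy⟩ := hs (pT.left v)
      obtain ⟨z, hz, -⟩ := hP k v y hy.symm
      exact ⟨k, z, hz⟩
    · rw [hpre]
      exact isOpen_Z F _
  let Eo : V.left.Opens := ⟨E, hEo⟩
  let V₀ : Over S := Over.mk (Eo.ι ≫ V.hom)
  let i : V₀ ⟶ V := Over.homMk Eo.ι rfl
  have hi : ∀ v : V₀.left, i.left v ∈ E := fun v => v.2
  -- the point
  have hwE : wV.left w₀ ∈ E := by
    obtain ⟨z, hz, -⟩ := hP k₀ (wV.left w₀) (e₀.left w₀) (by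
      rw [← Scheme.Hom.comp_apply, ← Scheme.Hom.comp_apply, ← Over.comp_left, ← Over.comp_left, hw1])
    let lam : W₀ ⟶ P k₀ := Over.homMk ((hpb k₀).lift wV.left e₀.left (by
      rw [← Over.comp_left, ← Over.comp_left, hw1])) (by
        rw [← Over.w (a k₀), IsPullback.lift_fst_assoc, Over.w])
    have l1 : lam ≫ a k₀ = wV := by
      ext
      exact (hpb k₀).lift_fst _ _ _
    have l2 : lam ≫ b k₀ = e₀ := by
      ext
      exact (hpb k₀).lift_snd _ _ _
    refine ⟨k₀, lam.left w₀, by rw [← Scheme.Hom.comp_apply, ← Over.comp_left, l1], ?_⟩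
    rw [← mem_Z_res_iff]
    have : res F lam (d k₀) = 0 := by
      rw [res_sub, res_res, res_res, l1, l2, es₀, res_sec, hw2, sub_self]
    rw [this]
    exact mem_Z_zero F w₀
  choose Q r₁ r₂ hr hrp hQ using fun k => exists_pb i (a k)
  refine ⟨V₀, i ≫ pT ≫ o, res F i t', Q, r₁, fun k => r₂ k ≫ b k, ?_, ⟨⟨wV.left w₀, hwE⟩, ?_⟩, ?_, ?_, ?_⟩
  · rw [Over.comp_left, Over.comp_left]
    have : Etale i.left := inferInstanceAs (Etale Eo.ι)
    infer_instance
  · have h1 : i.left ⟨wV.left w₀, hwE⟩ = wV.left w₀ := rfl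
    rw [Over.comp_left, Over.comp_left, Scheme.Hom.comp_apply, Scheme.Hom.comp_apply, h1]
    have h2 : pT.left (wV.left w₀) = (g k₀).left (e₀.left w₀) := by
      rw [← Scheme.Hom.comp_apply, ← Over.comp_left, hw1, Over.comp_left, Scheme.Hom.comp_apply]
    rw [h2, hw₀]
  · intro k
    simp only [Category.assoc]
    rw [← reassoc_of% (hab k), reassoc_of% (hr k)]
  · intro v
    obtain ⟨k, y, hy, -⟩ := hi v
    obtain ⟨w, hw, -⟩ := hQ k v y hy.symm
    exact ⟨k, w, hw⟩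
  · intro k
    apply eq_of_Z
    intro w
    have h1 : res F (r₁ k) (res F i t') - res F (r₂ k ≫ b k) (s k) = res F (r₂ k) (-(d k)) := by
      simp only [d, neg_sub]
      rw [res_sub, res_res, res_res, res_res, hr]
    rw [h1, mem_Z_res_iff]
    have h2 : (r₂ k).left w ∈ Z F (d k) := by
      rw [← hpre, Set.mem_preimage, ← Scheme.Hom.comp_apply, ← Over.comp_left, ← hr, Over.comp_left,
        Scheme.Hom.comp_apply]
      exact hi _
    obtain ⟨T₂, g₂, hg₂, hx₂, h₂⟩ := h2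
    refine ⟨T₂, g₂, hg₂, hx₂, ?_⟩
    have h4 := map_neg (((aPullE S).obj F).obj.map g₂.op).hom (d k)
    exact h4.trans (by rw [show (((aPullE S).obj F).obj.map g₂.op).hom (d k) = 0 from h₂, neg_zero])

end K299.FpqcDescent
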