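import Groth.Agent.BigSite.K299.FpqcDescent
import Groth.Prelude.Def_BigSite

/-!
# `π⁻¹ F` is a sheaf for the fpqc topology
-/

set_option autoImplicit false
universe w u
open CategoryTheory CategoryTheory.Limits AlgebraicGeometry Opposite

noncomputable section

namespace K299.FpqcDescent

open Groth.Agent.Etrest.BigEtSite

variable {S : Scheme.{u}} (F : EtCoh.Ab S)

theorem isSheafFor_of_local {T : Over S} (R : Sieve T)
    (hR : ∀ x : T.left, ∃ (O : Over S) (o : O ⟶ T), Etale o.left ∧ x ∈ Set.range o.left ∧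
      ∃ (n : ℕ) (T' : Fin n → Over S) (g : ∀ k, T' k ⟶ O), (∀ k, R (g k ≫ o)) ∧ (∀ k, Flat (g k).left) ∧
        (∀ k, QuasiCompact (g k).left) ∧ ∀ x : O.left, ∃ (k : Fin n) (y : (T' k).left), (g k).left y = x) :
    Presieve.IsSheafFor (tyE F) R.arrows := by
  intro x hx
  have hx1 : ∀ {Y Z : Over S} (g : Y ⟶ T) (hg : R g) (h : Z ⟶ Y),
      res F h (x g hg) = x (h ≫ g) (R.downward_closed hg h) := by
    intro Y Z g hg h
    refine (hx h (𝟙 _) hg (R.downward_closed hg h) (by simp)).trans ?_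
    rw [op_id, CategoryTheory.Functor.map_id]
    rfl
  have hx2 : ∀ {Y : Over S} (g g' : Y ⟶ T) (hg : R g) (e : g = g'), x g hg = x g' (e ▸ hg) := by
    intro Y g g' hg e
    subst e
    rfl
  have key : ∀ y : T.left, ∃ (V : Over S) (j : V ⟶ T) (t : GE F V) (n : ℕ) (W : Fin n → Over S)
      (q : ∀ k, W k ⟶ V) (hr : ∀ k, R (q k ≫ j)), Etale j.left ∧ y ∈ Set.range j.left ∧
      (∀ v : V.left, ∃ (k : Fin n) (w : (W k).left), (q k).left w = v) ∧
      ∀ k, res F (q k) t = x (q k ≫ j) (hr k) := by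
    intro y
    obtain ⟨O, o, ho, ⟨x₀, hx₀⟩, n, T', g, hg, hfl, hqc, hs⟩ := hR y
    obtain ⟨V, j, t, W, q, e, hj, hy, hc, hq, ht⟩ := exists_local F o ho g hfl hqc hs
      (fun k => x (g k ≫ o) (hg k)) (fun k l A a b hab => by
        rw [hx1, hx1]
        apply hx2
        rw [reassoc_of% hab]) x₀
    refine ⟨V, j, t, n, W, q, fun k => hc k ▸ R.downward_closed (hg k) (e k), hj, hx₀ ▸ hy, hq, fun k => ?_⟩
    rw [ht, hx1]
    exact hx2 _ _ _ (hc k)
  choose V j t n W q hr he hy hq ht using key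
  have hcomp : ∀ (y y' : T.left) (Z : Over S) (a : Z ⟶ V y) (b : Z ⟶ V y'), a ≫ j y = b ≫ j y' →
      res F a (t y) = res F b (t y') := by
    intro y y' Z a b hab
    apply eq_of_jointly_surjective
    intro z
    obtain ⟨k, w, hw⟩ := hq y (a.left z)
    obtain ⟨P, p1, p2, hp, -, hP⟩ := exists_pb a (q y k)
    obtain ⟨z1, hz1, hz1'⟩ := hP z w hw.symm
    obtain ⟨k', w', hw'⟩ := hq y' ((p1 ≫ b).left z1)
    obtain ⟨Q, r1, r2, hr', -, hQ⟩ := exists_pb (p1 ≫ b) (q y' k')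
    obtain ⟨z2, hz2, hz2'⟩ := hQ z1 w' hw'.symm
    refine ⟨Q, r1 ≫ p1, ⟨z2, ?_⟩, ?_⟩
    · rw [← hz1, ← hz2]
      rfl
    · have e1 : res F (r1 ≫ p1) (res F a (t y)) =
          x ((r1 ≫ p2) ≫ q y k ≫ j y) (R.downward_closed (hr y k) _) := by
        rw [← hx1 _ (hr y k), ← ht y, res_res, res_res]
        simp only [Category.assoc, hp]
      have e2 : res F (r1 ≫ p1) (res F b (t y')) =
          x (r2 ≫ q y' k' ≫ j y') (R.downward_closed (hr y' k') _) := by
        rw [← hx1 _ (hr y' k'), ← ht y', res_res, res_res]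
        rw [Category.assoc, hr']
      rw [e1, e2]
      apply hx2
      rw [← reassoc_of% hr', ← hab, Category.assoc, reassoc_of% hp]
  have hcov : Sieve.ofArrows V j ∈ JE S T := by
    rw [mem_JE_iff]
    intro y
    exact ⟨V y, j y, Sieve.ofArrows_mk _ _ y, he y, hy y⟩
  have hsh := isSheaf_tyE F _ hcov
  rw [Sieve.ofArrows, ← Presieve.isSheafFor_iff_generate, Presieve.isSheafFor_arrows_iff] at hsh
  obtain ⟨τ, hτ, -⟩ := hsh t (fun y y' Z a b h => hcomp y y' Z a b h)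
  have hτ' : ∀ y, res F (j y) τ = t y := hτ
  have hmain : ∀ (Z : Over S) (g : Z ⟶ T) (hg : R g), res F g τ = x g hg := by
    intro Z g hg
    apply eq_of_jointly_surjective
    intro z
    obtain ⟨y, hyz⟩ : ∃ y, y = g.left z := ⟨_, rfl⟩
    obtain ⟨v, hv⟩ := hy y
    obtain ⟨k, w, hw⟩ := hq y v
    obtain ⟨P, p1, p2, hp, -, hP⟩ := exists_pb g (q y k ≫ j y)
    obtain ⟨z1, hz1, hz1'⟩ := hP z w (hyz.symm.trans (hv.symm.trans (by rw [← hw]; rfl)))
    refine ⟨P, p1, ⟨z1, hz1⟩, ?_⟩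
    have e1 : res F p1 (res F g τ) = x (p2 ≫ q y k ≫ j y) (R.downward_closed (hr y k) _) := by
      rw [← hx1 _ (hr y k), ← ht y, ← hτ' y, res_res, res_res, res_res, hp, Category.assoc]
    rw [e1, hx1]
    exact hx2 _ _ _ hp.symm
  refine ⟨τ, fun Z g hg => hmain Z g hg, ?_⟩
  intro σ hσ
  apply eq_of_jointly_surjective
  intro y
  obtain ⟨v, hv⟩ := hy y
  obtain ⟨k, w, hw⟩ := hq y v
  refine ⟨W y k, q y k ≫ j y, ⟨w, ?_⟩, (hσ _ (hr y k)).trans (hmain _ _ (hr y k)).symm⟩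
  rw [Over.comp_left, Scheme.Hom.comp_apply, hw, hv]

/-- Fpqc coverings are locally refined by finite affine families. -/
theorem isSheaf_fpqc : Presheaf.IsSheaf (QuotSh.J Scheme.fpqcPrecoverage S) ((aPullE S).obj F).obj := by
  rw [Presheaf.isSheaf_iff_isSheaf_forget _ _ (forget AddCommGrpCat.{u + 1}), isSheaf_iff_isSheaf_of_type]
  intro T R hR
  rw [GrothendieckTopology.mem_over_iff] at hR
  obtain ⟨P, hP, hPR⟩ := (Precoverage.mem_toGrothendieck_iff_of_isStableUnderComposition).1 hR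
  obtain ⟨ι, X, f, rfl⟩ := P.exists_eq_ofArrows
  apply isSheafFor_of_local
  intro x
  obtain ⟨U, hxU, hU⟩ : ∃ U : T.left.Opens, x ∈ U ∧ IsAffineOpen U := by
    obtain ⟨_, ⟨U, hU, rfl⟩, hxU, -⟩ := T.left.isBasis_affineOpens.exists_subset_of_mem_open
      (Set.mem_univ x) isOpen_univ
    exact ⟨U, hxU, hU⟩
  have hP' : Presieve.ofArrows (fun i => pullback U.ι (f i)) (fun i => pullback.fst U.ι (f i)) ∈
      Scheme.fpqcPrecoverage U := by
    have h1 := Precoverage.IsStableUnderBaseChange.mem_coverings_of_isPullback (J := Scheme.fpqcPrecoverage)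
      f hP U.ι (fun i => pullback.fst U.ι (f i)) (fun i => pullback.snd U.ι (f i))
      (fun i => IsPullback.of_hasPullback _ _)
    exact h1
  have : CompactSpace U := isCompact_iff_compactSpace.1 hU.isCompact
  obtain ⟨n, W, α, p, hp, hW, hfl, hsu⟩ := Groth.Agent.Desc.FpqcRefine.exists_refine _ hP'
  have hUa : IsAffine U := hU
  let O : Over S := Over.mk (U.ι ≫ T.hom)
  let o : O ⟶ T := Over.homMk U.ι rfl
  let T' : Fin n → Over S := fun k => Over.mk ((p k ≫ pullback.fst U.ι (f (α k))) ≫ O.hom)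
  let g : ∀ k, T' k ⟶ O := fun k => Over.homMk (p k ≫ pullback.fst U.ι (f (α k))) rfl
  refine ⟨O, o, inferInstanceAs (Etale U.ι), ⟨⟨x, hxU⟩, rfl⟩, n, T', g, fun k => ?_, hfl, fun k => ?_, hsu⟩
  · have h1 : Presieve.ofArrows X f (f (α k)) := ⟨α k⟩
    have h2 := hPR _ _ h1
    rw [Sieve.overEquiv_iff] at h2
    have h3 := R.downward_closed h2 (Over.homMk (p k ≫ pullback.snd U.ι (f (α k))) (by
      dsimp [T', O]
      simp only [Category.assoc]
      rw [← pullback.condition_assoc]) : T' k ⟶ Over.mk (f (α k) ≫ T.hom))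
    convert h3 using 1
    ext
    change (p k ≫ pullback.fst U.ι (f (α k))) ≫ U.ι = p k ≫ pullback.snd U.ι (f (α k)) ≫ f (α k)
    rw [Category.assoc, pullback.condition]
  · have := hW k
    exact inferInstanceAs (QuasiCompact (p k ≫ pullback.fst U.ι (f (α k))))

end K299.FpqcDescent
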