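import Groth.Prelude.Def_BigSite

/-!
# For a monomorphism `f`, the counit `f⁻¹ f_* F ⟶ F` is an isomorphism (any topology)
-/

set_option autoImplicit false
universe w w' u

open CategoryTheory CategoryTheory.Limits AlgebraicGeometry Opposite

noncomputable section

namespace K299.MonoCounit

theorem isIso_of_left {S : Scheme.{u}} {A B : Over S} (g : A ⟶ B) (h : IsIso g.left) : IsIso g :=
  have : IsIso ((Over.forget S).map g) := h
  isIso_of_reflects_iso g (Over.forget S)

variable {X Y : Scheme.{u}} (f : X ⟶ Y) [Mono f] (K : Precoverage Scheme.{u}) (A : Type w) [Category.{w'} A]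

/-- The unit of `Over.map f ⊣ Over.pullback f` is an isomorphism for a monomorphism `f`. -/
theorem isIso_unit_app (U : Over X) : IsIso ((Over.mapPullbackAdj f).unit.app U) := by
  have h1 : ((Over.mapPullbackAdj f).unit.app U).left =
      pullback.lift (f := U.hom ≫ f) (g := f) (𝟙 U.left) U.hom (Category.id_comp _) := by
    simp [Over.mapPullbackAdj]
  have h2 : IsIso (pullback.lift (f := U.hom ≫ f) (g := f) (𝟙 U.left) U.hom (Category.id_comp _)) := by
    refine ⟨pullback.fst _ _, pullback.lift_fst _ _ _, ?_⟩
    apply pullback.hom_ext
    · rw [Category.assoc, pullback.lift_fst, Category.comp_id, Category.id_comp]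
    · rw [Category.assoc, pullback.lift_snd, Category.id_comp, ← cancel_mono f, Category.assoc,
        pullback.condition]
  apply isIso_of_left
  rw [h1]
  exact h2

omit [Mono f] in
theorem counit_app_app (F : Sheaf (QuotSh.J K X) A) (V : (Over X)ᵒᵖ) :
    ((BigSite.bigAdj K f A).counit.app F).hom.app V = F.obj.map ((Over.mapPullbackAdj f).unit.app V.unop).op := by
  simp

theorem isIso_counit_app (F : Sheaf (QuotSh.J K X) A) : IsIso ((BigSite.bigAdj K f A).counit.app F) := by
  have : IsIso ((sheafToPresheaf _ _).map ((BigSite.bigAdj K f A).counit.app F)) := by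
    have : ∀ V, IsIso (((sheafToPresheaf _ _).map ((BigSite.bigAdj K f A).counit.app F)).app V) := by
      intro V
      have h := isIso_unit_app f V.unop
      have h2 : IsIso (((BigSite.bigAdj K f A).counit.app F).hom.app V) := by
        rw [counit_app_app]
        have h3 : IsIso ((Over.mapPullbackAdj f).unit.app V.unop).op := isIso_op _
        exact @Functor.map_isIso _ _ _ _ _ _ F.obj _ h3
      exact h2
    exact NatIso.isIso_of_isIso_app _
  exact isIso_of_reflects_iso _ (sheafToPresheaf _ _)

end K299.MonoCounit
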