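import Groth.Prelude.Def_BigSite
import Groth.Agent.CohtopA.OverInj
import Mathlib.CategoryTheory.Abelian.Exact
import Mathlib.Algebra.Homology.ShortComplex.ExactFunctor

/-!
# `f_big⁻¹` is exact and preserves injectives, `f_!` on abelian sheaves is exact
-/

set_option autoImplicit false
universe w w' v₁ v₂ v₃ v₄ u₁ u₂ u₃ u₄ u

open CategoryTheory CategoryTheory.Limits AlgebraicGeometry Opposite

noncomputable section

namespace K299.PullInj

section General

variable {C : Type u₁} [Category.{v₁} C] [Abelian C] [EnoughInjectives C]
  {D : Type u₂} [Category.{v₂} D] [Abelian D]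

omit [Abelian C] [Abelian D] in
/-- If the right adjoint preserves injectives then the left adjoint preserves monomorphisms. -/
theorem mono_map_of_injective {L : D ⥤ C} {R : C ⥤ D} (adj : L ⊣ R)
    (h : ∀ I : C, Injective I → Injective (R.obj I)) {A B : D} (f : A ⟶ B) [Mono f] : Mono (L.map f) := by
  have h1 := h (Injective.under (L.obj A)) inferInstance
  obtain ⟨g, hg⟩ := Injective.factors (adj.homEquiv _ _ (Injective.ι (L.obj A))) f
  have h2 : L.map f ≫ (adj.homEquiv _ _).symm g = Injective.ι (L.obj A) := by
    rw [← adj.homEquiv_naturality_left_symm, hg, Equiv.symm_apply_apply]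
  exact mono_of_mono_fac h2

/-- If the right adjoint preserves injectives then the left adjoint is exact. -/
theorem preservesFiniteLimits_of_injective {L : D ⥤ C} {R : C ⥤ D} (adj : L ⊣ R) [L.Additive]
    (h : ∀ I : C, Injective I → Injective (R.obj I)) : PreservesFiniteLimits L := by
  have h1 : PreservesFiniteColimits L := by
    have : PreservesColimitsOfSize.{0, 0} L := adj.leftAdjoint_preservesColimits
    exact PreservesColimitsOfSize.preservesFiniteColimits _
  have h2 : L.PreservesMonomorphisms := ⟨fun f _ => mono_map_of_injective adj h f⟩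
  rw [Functor.preservesFiniteLimits_iff_forall_exact_map_and_mono]
  intro S hS
  have h3 := (Functor.preservesFiniteColimits_iff_forall_exact_map_and_epi L).1 h1 S hS
  have := hS.mono_f
  exact ⟨h3.1, inferInstance⟩

end General

variable (K : Precoverage Scheme.{u}) {S T : Scheme.{u}} (f : T ⟶ S)

instance isContinuous_slice : (Over.mk f).iteratedSliceBackward.IsContinuous (QuotSh.J K T)
    ((QuotSh.J K S).over (Over.mk f)) :=
  inferInstanceAs ((Over.mk f).iteratedSliceBackward.IsContinuous (K.toGrothendieck.over (Over.mk f).left)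
    ((K.toGrothendieck.over S).over (Over.mk f)))

instance isDenseSubsite_slice : (Over.mk f).iteratedSliceBackward.IsDenseSubsite (QuotSh.J K T)
    ((QuotSh.J K S).over (Over.mk f)) :=
  inferInstanceAs ((Over.mk f).iteratedSliceEquiv.inverse.IsDenseSubsite
    (K.toGrothendieck.over (Over.mk f).left) ((K.toGrothendieck.over S).over (Over.mk f)))

/-- Restriction to the slice. -/
abbrev sliceRes : Sheaf ((QuotSh.J K S).over (Over.mk f)) AddCommGrpCat.{u + 1} ⥤ BigSite.Ab K T :=
  (Over.mk f).iteratedSliceBackward.sheafPushforwardContinuous AddCommGrpCat.{u + 1}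
        (QuotSh.J K T) ((QuotSh.J K S).over (Over.mk f))

instance : (sliceRes K f).IsEquivalence := by
  infer_instance

theorem pullBig_obj_eq (H : BigSite.Ab K S) :
    (BigSite.pullBig K f AddCommGrpCat.{u + 1}).obj H = (sliceRes K f).obj (H.over (Over.mk f)) := rfl

theorem exactDiscrete (α : Type u) : HasExactColimitsOfShape (Discrete α) AddCommGrpCat.{u + 1} := by
  have : AB4OfSize.{u + 1} AddCommGrpCat.{u + 1} := AB4.of_AB5 _
  have : AB4OfSize.{u} AddCommGrpCat.{u + 1} := AB4OfSize_shrink.{u, u + 1} _
  infer_instance

/-- `f_big⁻¹` preserves injectives. -/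
theorem injective_pullBig (I : BigSite.Ab K S) [Injective I] :
    Injective ((BigSite.pullBig K f AddCommGrpCat.{u + 1}).obj I) := by
  rw [pullBig_obj_eq]
  have := exactDiscrete.{u}
  have h1 : Injective (I.over (Over.mk f)) := Groth.Agent.CohtopA.OverInj.injective_over _ I
  exact ((sliceRes K f).asEquivalence.map_injective_iff _).2 h1

instance preservesColimits_pullBig :
    PreservesColimitsOfSize.{0, 0} (BigSite.pullBig K f AddCommGrpCat.{u + 1}) :=
  (BigSite.bigAdj K f AddCommGrpCat.{u + 1}).leftAdjoint_preservesColimits

instance preservesLimits_pullBig :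
    PreservesLimitsOfSize.{0, 0} (BigSite.pullBig K f AddCommGrpCat.{u + 1}) :=
  (BigSite.shriekAbAdj K f).rightAdjoint_preservesLimits

instance preservesFiniteColimits_pullBig :
    PreservesFiniteColimits (BigSite.pullBig K f AddCommGrpCat.{u + 1}) :=
  PreservesColimitsOfSize.preservesFiniteColimits _

instance preservesFiniteLimits_pullBig :
    PreservesFiniteLimits (BigSite.pullBig K f AddCommGrpCat.{u + 1}) :=
  PreservesLimitsOfSize.preservesFiniteLimits _

instance additive_shriekAb : (BigSite.shriekAb K f).Additive :=
  (BigSite.shriekAbAdj K f).left_adjoint_additive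

/-- `f_!` is exact on abelian sheaves. -/
theorem preservesFiniteLimits_shriekAb : PreservesFiniteLimits (BigSite.shriekAb K f) :=
  preservesFiniteLimits_of_injective (BigSite.shriekAbAdj K f) (fun I _ => injective_pullBig K f I)

end K299.PullInj
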