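import Groth.Agent.Etrest.BigPush2
import Groth.Prelude.Def_EtBCD
import Groth.Prelude.Def_BigSite

/-!
# Sheaves of sets: the small and the big étale sites, direct images and base change
-/

set_option autoImplicit false
universe w u
open CategoryTheory CategoryTheory.Limits AlgebraicGeometry Opposite

noncomputable section

namespace K299.SetComp

open Groth.Agent.Etrest Groth.Agent.Etrest.BigEtSite
open Groth.Agent.Etrest.BigPush (sigmaHom isIso_sigmaHom_app over_key map_aux ufTop)

/-- Sheaves of sets on the big étale site. -/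
abbrev ShE (X : Scheme.{u}) : Type (u + 2) := Sheaf (JE X) (Type (u + 1))

/-- inverse image from the small étale site to the big étale site. -/
abbrev aPullE (X : Scheme.{u}) : EtDesc.Sh X ⥤ ShE X :=
  (EtFppf.a X).sheafPullback (Type (u + 1)) X.smallEtaleTopology (JE X)

/-- Restriction from the big to the small étale site. -/
abbrev aPushE (X : Scheme.{u}) : ShE X ⥤ EtDesc.Sh X :=
  (EtFppf.a X).sheafPushforwardContinuous (Type (u + 1)) X.smallEtaleTopology (JE X)

/-- The adjunction. -/
abbrev aAdjE (X : Scheme.{u}) : aPullE X ⊣ aPushE X :=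
  (EtFppf.a X).sheafAdjunctionContinuous (Type (u + 1)) X.smallEtaleTopology (JE X)

/-- Restriction from the big étale site of `S` to the small étale site of `T` -/
abbrev uRes {T S : Scheme.{u}} (f : T ⟶ S) : ShE S ⥤ EtDesc.Sh T :=
  (uf f).sheafPushforwardContinuous (Type (u + 1)) T.smallEtaleTopology (JE S)

/-- The inverse image `f⁻¹ F` is the restriction of `a⁻¹ F` (big étale site) to the small étale site
of `T`. -/
def pullIso {T S : Scheme.{u}} (f : T ⟶ S) : EtDesc.pullSh f ≅ aPullE S ⋙ uRes f :=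
  RanExact.pullbackIso _ _ _ _ (projNat f) _ _ _ (isRelAdj f)

variable {X Y : Scheme.{u}} (f : X ⟶ Y)

/-- Direct image on big étale sites. -/
abbrev pushBigE : ShE X ⥤ ShE Y :=
  (Over.pullback f).sheafPushforwardContinuous (Type (u + 1)) (JE Y) (JE X)

/-- Comparison morphism `a_Y⁻¹ f_* F ⟶ f_{big,*} a_X⁻¹ F`. -/
def compE (F : EtDesc.Sh X) : (aPullE Y).obj ((EtDesc.pushSh f).obj F) ⟶ (pushBigE f).obj ((aPullE X).obj F) :=
  ((aAdjE Y).homEquiv _ _).symm ((EtDesc.pushSh f).map ((aAdjE X).unit.app F))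

theorem unit_compE (F : EtDesc.Sh X) :
    (aAdjE Y).unit.app ((EtDesc.pushSh f).obj F) ≫ (aPushE Y).map (compE f F) =
      (EtDesc.pushSh f).map ((aAdjE X).unit.app F) := by
  have := ((aAdjE Y).homEquiv ((EtDesc.pushSh f).obj F)
    ((pushBigE f).obj ((aPullE X).obj F))).apply_symm_apply ((EtDesc.pushSh f).map ((aAdjE X).unit.app F))
  rw [Adjunction.homEquiv_unit] at this
  exact this

section BC

variable {T X' : Scheme.{u}} {t : T ⟶ Y} {f' : X' ⟶ T} {t' : X' ⟶ X}

/-- `(f_{big,*} H)|_T ⟶ f'_* (H|_{X'})`. -/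
def kappa (w : t' ≫ f = f' ≫ t) : pushBigE f ⋙ uRes t ⟶ uRes t' ⋙ EtDesc.pushSh f' where
  app H := ⟨Functor.whiskerRight (NatTrans.op (sigmaHom f w)) H.obj⟩
  naturality H H' φ := by
    apply (sheafToPresheaf _ _).map_injective
    exact ((Functor.whiskeringLeft _ _ (Type (u + 1))).map (NatTrans.op (sigmaHom f w))).naturality φ.hom

theorem isIso_kappa_app (hp : IsPullback t' f' f t) (H : ShE X) : IsIso ((kappa f hp.w).app H) := by
  have : IsIso ((sheafToPresheaf _ _).map ((kappa f hp.w).app H)) := by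
    have : ∀ V, IsIso (((sheafToPresheaf _ _).map ((kappa f hp.w).app H)).app V) := by
      intro V
      have := isIso_sigmaHom_app f hp V.unop
      exact inferInstanceAs (IsIso (H.obj.map ((sigmaHom f hp.w).app V.unop).op))
    exact NatIso.isIso_of_isIso_app _
  exact isIso_of_reflects_iso _ (sheafToPresheaf _ _)

/-- restriction map `a_{Y,*} H ⟶ t_* (H|_T)`. -/
abbrev rhoE {T Y : Scheme.{u}} (t : T ⟶ Y) : aPushE Y ⟶ uRes t ⋙ EtDesc.pushSh t :=
  RanExact.rho _ _ _ _ (projNat t) _ _ _

theorem unit_pullIso {T Y : Scheme.{u}} (t : T ⟶ Y) (F : EtDesc.Sh Y) :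
    (EtDesc.adjSh t).unit.app F ≫ (EtDesc.pushSh t).map ((pullIso t).hom.app F) =
      (aAdjE Y).unit.app F ≫ (rhoE t).app ((aPullE Y).obj F) :=
  RanExact.unit_pullbackIso _ _ _ _ (projNat t) _ _ _ (isRelAdj t) F

/-- Key compatibility of restriction maps. -/
theorem rho_kappa (w : t' ≫ f = f' ≫ t) (H : ShE X) :
    (rhoE t).app ((pushBigE f).obj H) ≫ (EtDesc.pushSh t).map ((kappa f w).app H) =
      (EtDesc.pushSh f).map ((rhoE t').app H) ≫ (EtDesc.pushCompSh f t').hom.app ((uRes t').obj H) ≫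
        (EtBC.pushCongrSh w).hom.app ((uRes t').obj H) ≫ (EtDesc.pushCompSh t f').inv.app ((uRes t').obj H) := by
  apply (sheafToPresheaf _ _).map_injective
  apply NatTrans.ext
  ext1 V
  have h := congrArg (fun k => H.obj.map k.op) (over_key f w V.unop)
  exact Eq.trans (H.obj.map_comp _ _).symm (h.trans (map_aux H.obj (uf t') _ _ _ _))

/-- The composite of composition isomorphisms. -/
abbrev swapIso (w : t' ≫ f = f' ≫ t) : EtDesc.pushSh t' ⋙ EtDesc.pushSh f ⟶ EtDesc.pushSh f' ⋙ EtDesc.pushSh t :=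
  (EtDesc.pushCompSh f t').hom ≫ (EtBC.pushCongrSh w).hom ≫ (EtDesc.pushCompSh t f').inv

theorem unit_baseChange0 (w : t' ≫ f = f' ≫ t) (F : EtDesc.Sh X) :
    (EtDesc.adjSh t).unit.app ((EtDesc.pushSh f).obj F) ≫
      (EtDesc.pushSh t).map (EtBC.baseChange0Sh f t f' t' w F) =
    (EtDesc.pushSh f).map ((EtDesc.adjSh t').unit.app F) ≫ (swapIso f w).app ((EtDesc.pullSh t').obj F) := by
  have := ((EtDesc.adjSh t).homEquiv ((EtDesc.pushSh f).obj F)
    ((EtDesc.pushSh f').obj ((EtDesc.pullSh t').obj F))).apply_symm_apply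
      ((EtDesc.pushSh f).map ((EtDesc.adjSh t').unit.app F) ≫ (EtDesc.pushCompSh f t').hom.app _ ≫
      (EtBC.pushCongrSh w).hom.app _ ≫ (EtDesc.pushCompSh t f').inv.app _)
  rw [Adjunction.homEquiv_unit] at this
  exact this

theorem rho_kappa' (w : t' ≫ f = f' ≫ t) (H : ShE X) :
    (rhoE t).app ((pushBigE f).obj H) ≫ (EtDesc.pushSh t).map ((kappa f w).app H) =
      (EtDesc.pushSh f).map ((rhoE t').app H) ≫ (swapIso f w).app ((uRes t').obj H) :=
  rho_kappa f w H

/-- The restriction of `compE f F` to the small étale site of `T` is the base change morphism. -/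
theorem compE_bc (w : t' ≫ f = f' ≫ t) (F : EtDesc.Sh X) :
    (pullIso t).hom.app ((EtDesc.pushSh f).obj F) ≫ (uRes t).map (compE f F) ≫
      (kappa f w).app ((aPullE X).obj F) =
    EtBC.baseChange0Sh f t f' t' w F ≫ (EtDesc.pushSh f').map ((pullIso t').hom.app F) := by
  apply ((EtDesc.adjSh t).homEquiv _ _).injective
  have hL : (EtDesc.adjSh t).unit.app ((EtDesc.pushSh f).obj F) ≫ (EtDesc.pushSh t).map
      ((pullIso t).hom.app ((EtDesc.pushSh f).obj F) ≫ (uRes t).map (compE f F) ≫
      (kappa f w).app ((aPullE X).obj F)) =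
      (EtDesc.pushSh f).map ((aAdjE X).unit.app F) ≫ (EtDesc.pushSh f).map ((rhoE t').app ((aPullE X).obj F)) ≫
        (swapIso f w).app ((uRes t').obj ((aPullE X).obj F)) := by
    rw [CategoryTheory.Functor.map_comp, CategoryTheory.Functor.map_comp, ← Category.assoc]
    refine (congrArg (fun k => k ≫ _) (unit_pullIso t ((EtDesc.pushSh f).obj F))).trans ?_
    refine (Category.assoc _ _ _).trans ?_
    have h1 := (rhoE t).naturality (compE f F)
    refine (congrArg (fun k => _ ≫ k) ((Category.assoc _ _ _).symm.trans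
      (congrArg (fun k => k ≫ _) h1.symm))).trans ?_
    refine (congrArg (fun k => _ ≫ k) (Category.assoc _ _ _)).trans ?_
    refine (Category.assoc _ _ _).symm.trans ?_
    exact congrArg₂ (fun k l => k ≫ l) (unit_compE f F) (rho_kappa' f w ((aPullE X).obj F))
  have hR : (EtDesc.adjSh t).unit.app ((EtDesc.pushSh f).obj F) ≫ (EtDesc.pushSh t).map
      (EtBC.baseChange0Sh f t f' t' w F ≫ (EtDesc.pushSh f').map ((pullIso t').hom.app F)) =
      (EtDesc.pushSh f).map ((aAdjE X).unit.app F) ≫ (EtDesc.pushSh f).map ((rhoE t').app ((aPullE X).obj F)) ≫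
        (swapIso f w).app ((uRes t').obj ((aPullE X).obj F)) := by
    rw [CategoryTheory.Functor.map_comp, ← Category.assoc]
    refine (congrArg (fun k => k ≫ _) (unit_baseChange0 f w F)).trans ?_
    refine (Category.assoc _ _ _).trans ?_
    have h1 := (swapIso f w).naturality ((pullIso t').hom.app F)
    refine (congrArg (fun k => _ ≫ k) h1.symm).trans ?_
    refine (Category.assoc _ _ _).symm.trans ?_
    refine (congrArg (fun k => k ≫ _) ((CategoryTheory.Functor.map_comp _ _ _).symm.trans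
      ((congrArg (EtDesc.pushSh f).map (unit_pullIso t' F)).trans (CategoryTheory.Functor.map_comp _ _ _)))).trans ?_
    exact Category.assoc _ _ _
  rw [Adjunction.homEquiv_unit, Adjunction.homEquiv_unit]
  exact hL.trans hR.symm

end BC

theorem isIso_uRes_compE {T X' : Scheme.{u}} {t : T ⟶ Y} {f' : X' ⟶ T} {t' : X' ⟶ X}
    (hp : IsPullback t' f' f t) (F : EtDesc.Sh X) (h : IsIso (EtBC.baseChange0Sh f t f' t' hp.w F)) :
    IsIso ((uRes t).map (compE f F)) := by
  have h1 := compE_bc f hp.w F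
  have h2 : IsIso ((kappa f hp.w).app ((aPullE X).obj F)) := isIso_kappa_app f hp _
  have h3 : IsIso (EtBC.baseChange0Sh f t f' t' hp.w F ≫ (EtDesc.pushSh f').map ((pullIso t').hom.app F)) :=
    inferInstance
  rw [← h1] at h3
  have h4 : IsIso ((uRes t).map (compE f F) ≫ (kappa f hp.w).app ((aPullE X).obj F)) :=
    IsIso.of_isIso_comp_left ((pullIso t).hom.app ((EtDesc.pushSh f).obj F)) _
  exact IsIso.of_isIso_comp_right ((uRes t).map (compE f F)) ((kappa f hp.w).app ((aPullE X).obj F))

theorem isIso_of_uRes {Y : Scheme.{u}} {H H' : ShE Y} (φ : H ⟶ H')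
    (h : ∀ (T : Scheme.{u}) (t : T ⟶ Y), IsIso ((uRes t).map φ)) : IsIso φ := by
  have : IsIso ((sheafToPresheaf _ _).map φ) := by
    have : ∀ V, IsIso (((sheafToPresheaf _ _).map φ).app V) := by
      intro V
      have h1 := h V.unop.left V.unop.hom
      have h2 : IsIso (((sheafToPresheaf _ _).map ((uRes V.unop.hom).map φ)).app (op (EtCoh.top V.unop.left))) :=
        inferInstance
      have h3 : IsIso (φ.hom.app (op ((uf V.unop.hom).obj (EtCoh.top V.unop.left)))) := h2
      have h4 := φ.hom.naturality (ufTop V.unop.hom).hom.op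
      have h5 : IsIso (H.obj.map (ufTop V.unop.hom).hom.op ≫ φ.hom.app (op ((uf V.unop.hom).obj (EtCoh.top V.unop.left)))) :=
        inferInstance
      rw [h4] at h5
      exact IsIso.of_isIso_comp_right (φ.hom.app (op (Over.mk V.unop.hom))) (H'.obj.map (ufTop V.unop.hom).hom.op)
    exact NatIso.isIso_of_isIso_app _
  exact isIso_of_reflects_iso _ (sheafToPresheaf _ _)

theorem isIso_compE (F : EtDesc.Sh X)
    (h : ∀ (T X' : Scheme.{u}) (t : T ⟶ Y) (f' : X' ⟶ T) (t' : X' ⟶ X) (hp : IsPullback t' f' f t),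
      IsIso (EtBC.baseChange0Sh f t f' t' hp.w F)) : IsIso (compE f F) := by
  apply isIso_of_uRes
  intro T t
  exact isIso_uRes_compE f (IsPullback.of_hasPullback f t) F
    (h _ _ _ _ _ (IsPullback.of_hasPullback f t))

theorem compE_naturality {F F' : EtDesc.Sh X} (φ : F ⟶ F') :
    (aPullE Y).map ((EtDesc.pushSh f).map φ) ≫ compE f F' =
      compE f F ≫ (pushBigE f).map ((aPullE X).map φ) := by
  apply ((aAdjE Y).homEquiv _ _).injective
  have h1 : (aAdjE Y).unit.app ((EtDesc.pushSh f).obj F) ≫ (aPushE Y).map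
      ((aPullE Y).map ((EtDesc.pushSh f).map φ) ≫ compE f F') =
      (EtDesc.pushSh f).map (φ ≫ (aAdjE X).unit.app F') := by
    rw [CategoryTheory.Functor.map_comp, ← Category.assoc]
    have h := (aAdjE Y).unit.naturality ((EtDesc.pushSh f).map φ)
    refine (congrArg (fun k => k ≫ (aPushE Y).map (compE f F')) h.symm).trans ?_
    refine (Category.assoc _ _ _).trans ?_
    refine (congrArg (fun k => (EtDesc.pushSh f).map φ ≫ k) (unit_compE f F')).trans ?_
    exact (CategoryTheory.Functor.map_comp (EtDesc.pushSh f) _ _).symm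
  have h2 : (aAdjE Y).unit.app ((EtDesc.pushSh f).obj F) ≫ (aPushE Y).map
      (compE f F ≫ (pushBigE f).map ((aPullE X).map φ)) =
      (EtDesc.pushSh f).map ((aAdjE X).unit.app F ≫ (aPushE X).map ((aPullE X).map φ)) := by
    rw [CategoryTheory.Functor.map_comp, ← Category.assoc]
    refine (congrArg (fun k => k ≫ (aPushE Y).map ((pushBigE f).map ((aPullE X).map φ))) (unit_compE f F)).trans ?_
    exact (CategoryTheory.Functor.map_comp (EtDesc.pushSh f) ((aAdjE X).unit.app F)
      ((aPushE X).map ((aPullE X).map φ))).symm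
  rw [Adjunction.homEquiv_unit, Adjunction.homEquiv_unit]
  refine h1.trans (Eq.trans ?_ h2.symm)
  exact congrArg (EtDesc.pushSh f).map ((aAdjE X).unit.naturality φ)

/-- Natural comparison isomorphism on the big étale sites, under base change. -/
def compEIso (h : ∀ (F : EtDesc.Sh X) (T X' : Scheme.{u}) (t : T ⟶ Y) (f' : X' ⟶ T) (t' : X' ⟶ X)
      (hp : IsPullback t' f' f t), IsIso (EtBC.baseChange0Sh f t f' t' hp.w F)) :
    EtDesc.pushSh f ⋙ aPullE Y ≅ aPullE X ⋙ pushBigE f :=
  NatIso.ofComponents (fun F => @asIso _ _ _ _ (compE f F) (isIso_compE f F (h F)))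
    (fun φ => compE_naturality f φ)

end K299.SetComp
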