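import Groth.Agent.BigSite.K299.EtRes
import Groth.Agent.Etbase.ZarEt
import Groth.Agent.Etrest.BigEtDescent

/-!
# Restriction from the big Zariski site to the small Zariski site
-/

set_option autoImplicit false
universe w w' v₁ v₂ v₃ v₄ u₁ u₂ u₃ u₄ u

open CategoryTheory CategoryTheory.Limits AlgebraicGeometry Opposite TopologicalSpace

noncomputable section

namespace K299.ZarRes

open Groth.Agent.Etrest Groth.Agent.Etrest.BigEtSite

/-- The Zariski precoverage. -/
abbrev KZ : Precoverage Scheme.{u} := Scheme.zariskiPrecoverage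

variable (S : Scheme.{u})

instance flat_zarIncl : RepresentablyFlat (BigSite.zarIncl S) :=
  RepresentablyFlat.comp (EtZar.zarToEt S) (EtFppf.a S)

theorem preservesFiniteLimits_piZarPull (K : Precoverage Scheme.{u}) [BigSite.ZarCont K S] :
    PreservesFiniteLimits (BigSite.piZarPull K S) := by
  have hfl : ∀ L : (Over S)ᵒᵖ, IsFiltered (CostructuredArrow (BigSite.zarIncl S).op L) := fun L =>
    IsFiltered.of_equivalence (structuredArrowOpEquivalence (BigSite.zarIncl S) (unop L))
  have : ∀ L : (Over S)ᵒᵖ, HasColimitsOfShape (CostructuredArrow (BigSite.zarIncl S).op L)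
      AddCommGrpCat.{u + 1} := fun L => inferInstance
  have : PreservesFiniteLimits ((BigSite.zarIncl S).op.lan :
      (_ ⥤ AddCommGrpCat.{u + 1}) ⥤ (Over S)ᵒᵖ ⥤ AddCommGrpCat.{u + 1}) :=
    Groth.Agent.Etbase.LanFlat.preservesFiniteLimits_op_lan _ _ (fun L => by
      have := hfl L
      have : HasFilteredColimitsOfSize.{u, u + 1} AddCommGrpCat.{u + 1} :=
        hasFilteredColimitsOfSize_shrink.{u, u + 1, u + 1, u + 1}
      have : AB5OfSize.{u, u + 1} AddCommGrpCat.{u + 1} := AB5OfSize_shrink.{u, u + 1, u + 1, u + 1} _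
      have : HasFilteredColimitsOfSize.{u, u} AddCommGrpCat.{u + 1} :=
        hasFilteredColimitsOfSize_shrink.{u, u, u + 1, u + 1}
      have : AB5OfSize.{u, u} AddCommGrpCat.{u + 1} := AB5OfSize_shrink.{u, u, u + 1, u + 1} _
      exact HasExactColimitsOfShape.preservesFiniteLimits)
  exact Functor.sheafPullbackConstruction.preservesFiniteLimits _ _ _ _

theorem injective_resZar (K : Precoverage Scheme.{u}) [BigSite.ZarCont K S] (I : BigSite.Ab K S) [Injective I] :
    Injective ((BigSite.resZar K S).obj I) := by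
  have := preservesFiniteLimits_piZarPull S K
  exact Injective.injective_of_adjoint (BigSite.piZarAdj K S) I

set_option backward.isDefEq.respectTransparency.types false in
theorem mem_JZ_iff {T : Over S} {R : Sieve T} :
    R ∈ QuotSh.J KZ S T ↔ ∀ x : T.left, ∃ (Y : Over S) (g : Y ⟶ T), R g ∧ IsOpenImmersion g.left ∧
      x ∈ Set.range g.left :=
  mem_over_grothendieckTopology_iff (P := @IsOpenImmersion)

instance isCocontinuous_zarIncl :
    (BigSite.zarIncl S).IsCocontinuous (Opens.grothendieckTopology S) (QuotSh.J KZ S) where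
  cover_lift {U R} hR := by
    rw [mem_JZ_iff] at hR
    intro x hx
    obtain ⟨Y, g, hg, ho, ⟨y, hy⟩⟩ := hR (⟨x, hx⟩ : U)
    let g' : Y.left ⟶ (U : Scheme.{u}) := g.left
    have hg' : g' ≫ U.ι = Y.hom := Over.w g
    have ho' : IsOpenImmersion g' := ho
    have hY : IsOpenImmersion Y.hom := by
      rw [← hg']
      infer_instance
    have hle : Y.hom.opensRange ≤ U := by
      rintro _ ⟨z, rfl⟩
      rw [← hg', Scheme.Hom.comp_apply]
      exact (g' z).2
    refine ⟨Y.hom.opensRange, homOfLE hle, ?_, ⟨y, ?_⟩⟩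
    · change R.arrows _
      let e : (BigSite.zarIncl S).obj Y.hom.opensRange ⟶ Y :=
        Over.homMk (Y.hom.isoOpensRange).inv (Scheme.Hom.isoOpensRange_inv_comp Y.hom)
      have h2 := R.downward_closed hg e
      convert h2 using 1
      ext : 1
      exact (cancel_mono U.ι).1 ((Over.w ((BigSite.zarIncl S).map (homOfLE hle))).trans (Over.w (e ≫ g)).symm)
    · have hy' : g' y = ⟨x, hx⟩ := hy
      rw [← hg', Scheme.Hom.comp_apply, hy']
      rfl

variable [BigSite.ZarCont KZ S]

instance preservesColimits_resZar : PreservesFiniteColimits (BigSite.resZar KZ S) := by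
  have : PreservesColimitsOfSize.{0, 0} (BigSite.resZar KZ S) :=
    ((BigSite.zarIncl S).sheafAdjunctionCocontinuous AddCommGrpCat.{u + 1} (Opens.grothendieckTopology S)
      (QuotSh.J KZ S)).leftAdjoint_preservesColimits
  exact PreservesColimitsOfSize.preservesFiniteColimits _

instance preservesLimits_resZar : PreservesFiniteLimits (BigSite.resZar KZ S) := by
  have : PreservesLimitsOfSize.{0, 0} (BigSite.resZar KZ S) :=
    (BigSite.piZarAdj KZ S).rightAdjoint_preservesLimits
  exact PreservesLimitsOfSize.preservesFiniteLimits _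

/-- `⊤` is sent to a terminal object. -/
def isTerminalTop' : IsTerminal ((BigSite.zarIncl S).obj (⊤ : S.Opens)) :=
  IsTerminal.ofUniqueHom (fun T =>
    let l : T.left ⟶ ((⊤ : S.Opens) : Scheme.{u}) := IsOpenImmersion.lift (⊤ : S.Opens).ι T.hom (by
      rw [Scheme.Opens.range_ι]
      exact Set.subset_univ _)
    have hl : l ≫ (⊤ : S.Opens).ι = T.hom := IsOpenImmersion.lift_fac _ _ _
    Over.homMk l hl) (fun T m => by
        ext : 1
        refine (cancel_mono (⊤ : S.Opens).ι).1 ((Over.w m).trans ?_)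
        exact (IsOpenImmersion.lift_fac _ _ _).symm)

/-- pullback of a constant sheaf. -/
def constIso (M : AddCommGrpCat.{u + 1}) :
    (BigSite.piZarPull KZ S).obj ((constantSheaf (Opens.grothendieckTopology S) AddCommGrpCat.{u + 1}).obj M) ≅
      (constantSheaf (QuotSh.J KZ S) AddCommGrpCat.{u + 1}).obj M :=
  (Adjunction.leftAdjointUniq
    ((constantSheafAdj (Opens.grothendieckTopology S) AddCommGrpCat.{u + 1}
      (isTerminalTop : IsTerminal (⊤ : S.Opens))).comp (BigSite.piZarAdj KZ S))
    (constantSheafAdj (QuotSh.J KZ S) AddCommGrpCat.{u + 1} (isTerminalTop' S))).app M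

theorem nonempty_H_resZar (F : BigSite.Ab KZ S) (p : ℕ) :
    Nonempty (EtZar.H ((BigSite.resZar KZ S).obj F) p ≃+ BigSite.H KZ S F p) :=
  EtRes.nonempty_ext_comparison (BigSite.piZarAdj KZ S) (fun I _ => injective_resZar S KZ I) _ _
    (constIso S (AddCommGrpCat.of (ULift ℤ))) F p

end K299.ZarRes
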